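import Mathlib
import Cfsg.Prelude
import Cfsg.Agent.Lib.Helper72.HH1
import Cfsg.Agent.Lib.Helper72.FrobFix
import Cfsg.Agent.Lib.Helper24.Basic

set_option autoImplicit false
set_option linter.unusedSectionVars false

/-! The minimal configuration (helper72), part 1. -/

namespace Cfsg.Agent.Lib.Helper72

open Subgroup
open scoped commutatorElement

universe u

variable {G : Type u} [Group G]

/-- minimal configuration. -/
structure MinCfg (p q r : ℕ) (X Q V : Subgroup G) : Prop extends Cfg p q r X Q V where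
  faith : Q ⊓ centralizer (V : Set G) = ⊥
  minQ : ∀ Q₁ : Subgroup G, Q₁ < Q → X ≤ normalizer (Q₁ : Set G) → ⁅Q₁, X⁆ = ⊥
  minV : ∀ V₁ : Subgroup G, V₁ < V → X ≤ normalizer (V₁ : Set G) →
    Q ≤ normalizer (V₁ : Set G) → ⁅Q, X⁆ ≤ centralizer (V₁ : Set G)
  ne : ⁅Q, X⁆ ≠ ⊥

namespace MinCfg

variable {p q r : ℕ} {X Q V : Subgroup G}

section
variable [Finite G] [Fact p.Prime] [Fact q.Prime] [Fact r.Prime]

theorem copXQ (h : MinCfg p q r X Q V) (hqr : q ≠ r) : (Nat.card X).Coprime (Nat.card Q) :=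
  IsPGroup.coprime_card_of_ne r q hqr.symm X Q h.isPGroupX h.hQ

theorem copQV (h : MinCfg p q r X Q V) (hpq : p ≠ q) : (Nat.card Q).Coprime (Nat.card V) :=
  IsPGroup.coprime_card_of_ne q p hpq.symm Q V h.hQ h.isPGroupV

theorem comm_eq (h : MinCfg p q r X Q V) (hqr : q ≠ r) : ⁅Q, X⁆ = Q := by
  by_contra hne
  have hlt : ⁅Q, X⁆ < Q := lt_of_le_of_ne (le_normalizer_iff_commutator_le_left.1 h.hXQ) hne
  have h1 := h.minQ _ hlt (normalizer_commutator_ge_right Q X)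
  exact h.ne (Cfsg.Agent.Lib.Helper24.commutator_eq_bot_of_coprime h.hXQ (h.copXQ hqr) h1)

theorem Q_ne_bot (h : MinCfg p q r X Q V) : Q ≠ ⊥ := by
  intro h1
  apply h.ne
  rw [h1, commutator_bot_left]

theorem commV_eq (h : MinCfg p q r X Q V) (hpq : p ≠ q) (hqr : q ≠ r) : ⁅V, Q⁆ = V := by
  by_contra hne
  have hlt : ⁅V, Q⁆ < V := lt_of_le_of_ne (le_normalizer_iff_commutator_le_left.1 h.hQV) hne
  have h1 := h.minV _ hlt (le_normalizer_commutator h.hXV h.hXQ) (normalizer_commutator_ge_right V Q)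
  rw [h.comm_eq hqr] at h1
  have h2 : ⁅⁅V, Q⁆, Q⁆ = ⊥ := by
    rw [commutator_comm, commutator_eq_bot_iff_le_centralizer]; exact h1
  have h3 := Cfsg.Agent.Lib.Helper24.commutator_eq_bot_of_coprime h.hQV (h.copQV hpq) h2
  rw [commutator_comm, commutator_eq_bot_iff_le_centralizer] at h3
  apply h.Q_ne_bot
  rw [← h.faith]
  exact (inf_eq_left.2 h3).symm

theorem CVQ (h : MinCfg p q r X Q V) (hpq : p ≠ q) (hqr : q ≠ r) :
    V ⊓ centralizer (Q : Set G) = ⊥ := by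
  have := Cfsg.Agent.Lib.Helper48.commutator_inf_centralizer_eq_bot h.hV.1 h.hQV
    (fun v hv hv1 => eq_one_of_pow_coprime hv (h.copQV hpq).symm hv1)
  rwa [h.commV_eq hpq hqr] at this

theorem irred (h : MinCfg p q r X Q V) (hpq : p ≠ q) (hqr : q ≠ r) (V₁ : Subgroup G) (hlt : V₁ < V)
    (hX1 : X ≤ normalizer (V₁ : Set G)) (hQ1 : Q ≤ normalizer (V₁ : Set G)) : V₁ = ⊥ := by
  have h1 := h.minV _ hlt hX1 hQ1
  rw [h.comm_eq hqr] at h1
  rw [eq_bot_iff, ← h.CVQ hpq hqr]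
  exact le_inf hlt.le (le_centralizer_iff.1 h1)

theorem V_ne_bot (h : MinCfg p q r X Q V) : V ≠ ⊥ := by
  intro h1
  apply h.Q_ne_bot
  rw [← h.faith, h1]
  symm
  rw [inf_eq_left]
  intro a _
  rw [mem_centralizer_iff]
  intro v hv
  rw [SetLike.mem_coe, mem_bot] at hv
  rw [hv, one_mul, mul_one]

theorem fpf (h : MinCfg p q r X Q V) (hpq : p ≠ q) (hqr : q ≠ r) {z : G} (hzQ : z ∈ Q)
    (hzC : z ∈ centralizer (Q : Set G)) (hzX : z ∈ centralizer (X : Set G)) (hz1 : z ≠ 1) :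
    V ⊓ centralizer {z} = ⊥ := by
  apply h.irred hpq hqr
  · refine lt_of_le_of_ne inf_le_left ?_
    intro he
    apply hz1
    have h1 : V ≤ centralizer {z} := inf_eq_left.1 he
    have h2 : z ∈ Q ⊓ centralizer (V : Set G) := by
      refine mem_inf.2 ⟨hzQ, ?_⟩
      rw [mem_centralizer_iff]
      intro v hv
      exact ((mem_centralizer_iff.1 (h1 hv)) z rfl).symm
    rw [h.faith, mem_bot] at h2
    exact h2
  · intro a ha
    exact Cfsg.Agent.Lib.Helper22.mem_normalizer_inf_centralizer_singleton (h.hXV ha)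
      ((mem_centralizer_iff.1 hzX) a ha)
  · intro a ha
    exact Cfsg.Agent.Lib.Helper22.mem_normalizer_inf_centralizer_singleton (h.hQV ha)
      ((mem_centralizer_iff.1 hzC) a ha)

theorem not_comm (h : MinCfg p q r X Q V) (hpq : p ≠ q) (hqr : q ≠ r) : ¬ IsMulCommutative Q := by
  intro hc
  have h1 := Cfsg.Agent.Lib.Helper48.commutator_inf_centralizer_eq_bot hc h.hXQ
    (fun v hv hv1 => eq_one_of_pow_coprime hv (h.copXQ hqr).symm hv1)
  rw [h.comm_eq hqr] at h1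
  apply h.V_ne_bot
  rw [eq_bot_iff_forall]
  intro v hv
  have h2 := pow_card_mem_centralizer h.hX h.hXQ h1 h.hV.1 h.hXV h.hQV h.hCV hv
  have h3 : v ^ Nat.card Q ∈ V ⊓ centralizer (Q : Set G) := ⟨V.pow_mem hv _, h2⟩
  rw [h.CVQ hpq hqr, mem_bot] at h3
  exact eq_one_of_pow_coprime hv (h.copQV hpq).symm h3

theorem central_of_normal (h : MinCfg p q r X Q V) (hqr : q ≠ r) (N : Subgroup G) (hlt : N < Q)
    (hQN : Q ≤ normalizer (N : Set G)) (hXN : X ≤ normalizer (N : Set G)) :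
    N ≤ centralizer (Q : Set G) := by
  have h1 : ⁅N, X⁆ = ⊥ := h.minQ N hlt hXN
  have h2 : ⁅⁅N, Q⁆, X⁆ = ⊥ := by
    apply h.minQ
    · exact lt_of_le_of_lt (le_normalizer_iff_commutator_le_left.1 hQN) hlt
    · exact le_normalizer_commutator hXN h.hXQ
  have h3 : ⁅⁅X, N⁆, Q⁆ = ⊥ := by rw [commutator_comm X N, h1, commutator_bot_left]
  have h4 := commutator_commutator_eq_bot_of_rotate h3 h2
  rw [h.comm_eq hqr, commutator_eq_bot_iff_le_centralizer] at h4
  exact le_centralizer_iff.1 h4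

theorem isSolvableQ (h : MinCfg p q r X Q V) : Group.IsSolvable Q := by
  have : Group.IsNilpotent Q := h.hQ.isNilpotent
  infer_instance

theorem derived_lt (h : MinCfg p q r X Q V) : ⁅Q, Q⁆ < Q := by
  have := h.isSolvableQ
  exact Cfsg.Agent.S3703.comm_lt Q h.Q_ne_bot

theorem derived_le (h : MinCfg p q r X Q V) (hqr : q ≠ r) : ⁅Q, Q⁆ ≤ centralizer (Q : Set G) :=
  h.central_of_normal hqr _ h.derived_lt (normalizer_commutator_ge_left Q Q)
    (le_normalizer_commutator h.hXQ h.hXQ)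

theorem center_lt (h : MinCfg p q r X Q V) (hpq : p ≠ q) (hqr : q ≠ r) :
    Q ⊓ centralizer (Q : Set G) < Q := by
  refine lt_of_le_of_ne inf_le_left ?_
  intro he
  apply h.not_comm hpq hqr
  have h1 : Q ≤ centralizer (Q : Set G) := inf_eq_left.1 he
  exact ⟨⟨fun a b => Subtype.ext ((mem_centralizer_iff.1 (h1 b.2)) a a.2)⟩⟩

theorem center_le_CX (h : MinCfg p q r X Q V) (hpq : p ≠ q) (hqr : q ≠ r) :
    Q ⊓ centralizer (Q : Set G) ≤ centralizer (X : Set G) := by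
  have h1 := h.minQ _ (h.center_lt hpq hqr)
    (Cfsg.Agent.Lib.Helper22.le_normalizer_inf_centralizer h.hXQ h.hXQ)
  rwa [commutator_eq_bot_iff_le_centralizer] at h1

theorem CX_le_derived (h : MinCfg p q r X Q V) (hqr : q ≠ r) :
    Q ⊓ centralizer (X : Set G) ≤ ⁅Q, Q⁆ :=
  inf_centralizer_le h.derived_lt.le h.hXQ (le_normalizer_commutator h.hXQ h.hXQ) le_rfl
    (h.copXQ hqr).symm (h.comm_eq hqr)

theorem center_eq_derived (h : MinCfg p q r X Q V) (hpq : p ≠ q) (hqr : q ≠ r) :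
    Q ⊓ centralizer (Q : Set G) = ⁅Q, Q⁆ :=
  le_antisymm ((le_inf inf_le_left (h.center_le_CX hpq hqr)).trans (h.CX_le_derived hqr))
    (le_inf h.derived_lt.le (h.derived_le hqr))

theorem CX_eq_center (h : MinCfg p q r X Q V) (hpq : p ≠ q) (hqr : q ≠ r) :
    Q ⊓ centralizer (X : Set G) = Q ⊓ centralizer (Q : Set G) :=
  le_antisymm ((h.CX_le_derived hqr).trans (h.center_eq_derived hpq hqr).ge)
    (le_inf inf_le_left (h.center_le_CX hpq hqr))

end

end MinCfg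

end Cfsg.Agent.Lib.Helper72
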