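import Mathlib
import Cfsg.Prelude
import Cfsg.Agent.Lib.Helper72.HH2
import Cfsg.Agent.Lib.Helper46.CharSub
import Cfsg.Agent.Lib.Helper2.PGroupFrattini

set_option autoImplicit false
set_option linter.unusedSectionVars false

/-! The minimal configuration (helper72), part 2: `Q` is extraspecial. -/

namespace Cfsg.Agent.Lib.Helper72

open Subgroup
open scoped commutatorElement

universe u

variable {G : Type u} [Group G]

theorem map_center_subtype (Q : Subgroup G) :
    (center ↥Q).map Q.subtype = Q ⊓ centralizer (Q : Set G) := by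
  ext x
  constructor
  · rintro ⟨y, hy, rfl⟩
    refine mem_inf.2 ⟨y.2, ?_⟩
    rw [mem_centralizer_iff]
    intro b hb
    exact congrArg Subtype.val ((mem_center_iff.1 hy) ⟨b, hb⟩)
  · intro hx
    obtain ⟨h1, h2⟩ := mem_inf.1 hx
    refine ⟨⟨x, h1⟩, ?_, rfl⟩
    rw [SetLike.mem_coe, mem_center_iff]
    intro b
    exact Subtype.ext ((mem_centralizer_iff.1 h2) b b.2)

namespace MinCfg

variable {p q r : ℕ} {X Q V : Subgroup G}

variable [Finite G] [Fact p.Prime] [Fact q.Prime] [Fact r.Prime]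

theorem frat_lt (h : MinCfg p q r X Q V) : (frattini ↥Q).map Q.subtype < Q := by
  have h1 : frattini ↥Q < ⊤ := by
    rw [lt_top_iff_ne_top]
    intro he
    have h2 : (⊥ : Subgroup Q) ⊔ frattini ↥Q = ⊤ := by rw [he, bot_sup_eq]
    have h3 := frattini_nongenerating h2
    apply h.Q_ne_bot
    rw [eq_bot_iff_forall]
    intro x hx
    have : (⟨x, hx⟩ : Q) ∈ (⊥ : Subgroup Q) := by rw [h3]; trivial
    exact congrArg Subtype.val (mem_bot.1 this)
  calc (frattini ↥Q).map Q.subtype < (⊤ : Subgroup Q).map Q.subtype :=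
        (Subgroup.map_subtype_lt_map_subtype).2 h1
    _ = Q := by rw [← MonoidHom.range_eq_map, Subgroup.range_subtype]

theorem frat_le (h : MinCfg p q r X Q V) (hqr : q ≠ r) :
    (frattini ↥Q).map Q.subtype ≤ centralizer (Q : Set G) :=
  h.central_of_normal hqr _ h.frat_lt
    (le_normalizer.trans
      (Cfsg.Agent.Lib.Helper46.CharSub.normalizer_le_of_characteristic Q _ inferInstance))
    (h.hXQ.trans
      (Cfsg.Agent.Lib.Helper46.CharSub.normalizer_le_of_characteristic Q _ inferInstance))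

theorem pow_q_mem (h : MinCfg p q r X Q V) (hqr : q ≠ r) {a : G} (ha : a ∈ Q) :
    a ^ q ∈ centralizer (Q : Set G) := by
  apply h.frat_le hqr
  exact ⟨⟨a, ha⟩ ^ q, Cfsg.Agent.Lib.Helper2.pow_p_mem_frattini h.hQ _, rfl⟩

theorem comm_pow (h : MinCfg p q r X Q V) (hqr : q ≠ r) {a b : G} (ha : a ∈ Q) (hb : b ∈ Q) :
    ⁅a, b⁆ ^ q = 1 := by
  have h1 : ⁅a, b⁆ ∈ centralizer (Q : Set G) := h.derived_le hqr (commutator_mem_commutator ha hb)
  have h2 : Commute ⁅a, b⁆ b := ((mem_centralizer_iff.1 h1) b hb).symm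
  have h3 := Cfsg.Agent.Lib.Helper24.conj_pow_eq_of_commute a b q h2
  have h4 : a * b ^ q = b ^ q * a := (mem_centralizer_iff.1 (h.pow_q_mem hqr hb)) a ha
  rw [h4, mul_inv_cancel_right] at h3
  exact (mul_eq_right.1 h3.symm)

theorem derived_exp (h : MinCfg p q r X Q V) (hqr : q ≠ r) : ∀ z ∈ ⁅Q, Q⁆, z ^ q = 1 := by
  have key : ∀ z, z ∈ ⁅Q, Q⁆ → z ∈ Q ∧ z ∈ centralizer (Q : Set G) ∧ z ^ q = 1 := by
    intro z hz
    rw [Subgroup.commutator_def] at hz
    induction hz using Subgroup.closure_induction with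
    | mem x hx =>
      obtain ⟨a, ha, b, hb, rfl⟩ := hx
      exact ⟨h.derived_lt.le (commutator_mem_commutator ha hb),
        h.derived_le hqr (commutator_mem_commutator ha hb), h.comm_pow hqr ha hb⟩
    | one => exact ⟨Q.one_mem, Subgroup.one_mem _, one_pow _⟩
    | mul x y _ _ hx hy =>
      refine ⟨Q.mul_mem hx.1 hy.1, Subgroup.mul_mem _ hx.2.1 hy.2.1, ?_⟩
      have hc : Commute x y := (mem_centralizer_iff.1 hy.2.1) x hx.1
      rw [hc.mul_pow, hx.2.2, hy.2.2, one_mul]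
    | inv x _ hx =>
      exact ⟨Q.inv_mem hx.1, Subgroup.inv_mem _ hx.2.1, by rw [inv_pow, hx.2.2, inv_one]⟩
  exact fun z hz => (key z hz).2.2

theorem derived_ne_bot (h : MinCfg p q r X Q V) (hpq : p ≠ q) (hqr : q ≠ r) : ⁅Q, Q⁆ ≠ ⊥ := by
  intro he
  rw [commutator_eq_bot_iff_le_centralizer] at he
  apply h.not_comm hpq hqr
  exact ⟨⟨fun a b => Subtype.ext ((mem_centralizer_iff.1 (he b.2)) a a.2)⟩⟩

theorem card_derived (h : MinCfg p q r X Q V) (hpq : p ≠ q) (hqr : q ≠ r) :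
    Nat.card ↥⁅Q, Q⁆ = q := by
  have hq : q.Prime := Fact.out
  have hP : IsPGroup q ↥⁅Q, Q⁆ := h.hQ.to_le h.derived_lt.le
  obtain ⟨k, hk⟩ := IsPGroup.iff_card.1 hP
  have h1 : 1 < Nat.card ↥⁅Q, Q⁆ := by
    rw [Subgroup.one_lt_card_iff_ne_bot]; exact h.derived_ne_bot hpq hqr
  have h2 : ¬ q ^ 2 ≤ Nat.card ↥⁅Q, Q⁆ := by
    intro h2
    apply h.V_ne_bot
    rw [eq_bot_iff]
    apply Cfsg.Agent.Lib.Helper22.le_of_forall_centralizer_le (p := q) ⁅Q, Q⁆ V ⊥
    · intro x hx y hy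
      exact (mem_centralizer_iff.1 (h.derived_le hqr hy)) x (h.derived_lt.le hx)
    · exact h.derived_exp hqr
    · exact h2
    · intro hd
      obtain ⟨j, hj⟩ := IsPGroup.iff_card.1 h.isPGroupV
      rw [hj] at hd
      exact hpq ((Nat.prime_dvd_prime_iff_eq hq Fact.out).1 (hq.dvd_of_dvd_pow hd)).symm
    · exact h.derived_lt.le.trans h.hQV
    · intro a ha ha1
      have ha' : a ∈ Q ⊓ centralizer (Q : Set G) := by
        rw [h.center_eq_derived hpq hqr]; exact ha
      exact (h.fpf hpq hqr ha'.1 ha'.2 (h.center_le_CX hpq hqr ha') ha1).le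
  rw [hk] at h1 h2 ⊢
  have hk1 : k ≠ 0 := by
    rintro rfl
    simp at h1
  have hk2 : k < 2 := by
    by_contra hcon
    push Not at hcon
    exact h2 (Nat.pow_le_pow_right hq.pos hcon)
  have : k = 1 := by omega
  rw [this, pow_one]

theorem extraspecial (h : MinCfg p q r X Q V) (hpq : p ≠ q) (hqr : q ≠ r) :
    Cfsg.IsExtraspecial q ↥Q := by
  have hZ := map_center_subtype Q
  have hD : (commutator ↥Q).map Q.subtype = ⁅Q, Q⁆ := Q.map_subtype_commutator
  have e1 : commutator ↥Q = center ↥Q := by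
    apply map_injective Q.subtype_injective
    rw [hZ, hD, h.center_eq_derived hpq hqr]
  refine ⟨⟨h.hQ, ?_, e1⟩, ?_⟩
  · apply le_antisymm
    · have h1 : (frattini ↥Q).map Q.subtype ≤ (center ↥Q).map Q.subtype := by
        rw [hZ]
        exact le_inf h.frat_lt.le (h.frat_le hqr)
      exact (map_le_map_iff_of_injective Q.subtype_injective).1 h1
    · rw [← e1]
      exact Cfsg.Agent.Lib.Helper2.commutator_le_frattini h.hQ
  · rw [← e1, ← card_map_of_injective Q.subtype_injective, hD]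
    exact h.card_derived hpq hqr

theorem faithful (h : MinCfg p q r X Q V) (hqr : q ≠ r) :
    (X ⊔ Q) ⊓ centralizer (V : Set G) = ⊥ := by
  have hr : r.Prime := Fact.out
  have hQC : Q ≤ normalizer ((centralizer (V : Set G) : Subgroup G) : Set G) := by
    have := Cfsg.Agent.Lib.Helper22.le_normalizer_inf_centralizer (A := Q) (K := ⊤) (B := V)
      (by rw [normalizer_eq_top (H := (⊤ : Subgroup G))]; exact le_top) h.hQV
    simpa using this
  rw [eq_bot_iff]
  intro g hg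
  obtain ⟨hg1, hg2⟩ := mem_inf.1 hg
  rw [sup_comm] at hg1
  have hgN : g ∈ normalizer (Q : Set G) := (sup_le le_normalizer h.hXQ) hg1
  -- `g` centralizes `Q`
  have hgQ : ∀ b ∈ Q, g * b = b * g := by
    intro b hb
    have h1 : g * b * g⁻¹ * b⁻¹ ∈ Q :=
      Q.mul_mem ((mem_normalizer_iff.1 hgN b).1 hb) (Q.inv_mem hb)
    have h2 : g * b * g⁻¹ * b⁻¹ ∈ centralizer (V : Set G) := by
      have h3 : b * g⁻¹ * b⁻¹ ∈ centralizer (V : Set G) :=
        le_normalizer_iff.1 hQC b hb _ (Subgroup.inv_mem _ hg2)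
      have h4 : g * b * g⁻¹ * b⁻¹ = g * (b * g⁻¹ * b⁻¹) := by group
      rw [h4]
      exact Subgroup.mul_mem _ hg2 h3
    have h5 : g * b * g⁻¹ * b⁻¹ ∈ Q ⊓ centralizer (V : Set G) := ⟨h1, h2⟩
    rw [h.faith, mem_bot] at h5
    have h6 := mul_inv_eq_one.1 h5
    exact mul_inv_eq_iff_eq_mul.1 h6
  obtain ⟨a, ha, x, hx, rfl⟩ := (Cfsg.Agent.Lib.Helper22.mem_sup_of_le_normalizer h.hXQ).1 hg1
  by_cases hx1 : x = 1
  · subst hx1
    rw [mul_one] at hg2 ⊢
    rw [← h.faith]
    exact ⟨ha, hg2⟩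
  · exfalso
    apply h.V_ne_bot
    have hc : Commute a⁻¹ (a * x) := by
      have := hgQ a⁻¹ (Q.inv_mem ha)
      exact this.symm
    have h1 : x ^ Nat.card Q = (a * x) ^ Nat.card Q := by
      have h2 : x = a⁻¹ * (a * x) := by group
      conv_lhs => rw [h2]
      rw [hc.mul_pow, inv_pow, pow_eq_one_of_mem ha, inv_one, one_mul]
    have h2 : x ^ Nat.card Q ∈ centralizer (V : Set G) := by
      rw [h1]; exact Subgroup.pow_mem _ hg2 _
    have h3 : x ^ Nat.card Q ≠ 1 := by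
      intro h3
      exact hx1 (eq_one_of_pow_coprime hx (h.copXQ hqr) h3)
    rw [eq_bot_iff, ← h.hCV]
    intro v hv
    refine mem_inf.2 ⟨hv, ?_⟩
    exact mem_centralizer_of_commute_gen h.hX (X.pow_mem hx _) h3
      ((mem_centralizer_iff.1 h2) v hv)

end MinCfg

end Cfsg.Agent.Lib.Helper72
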