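import Mathlib
import Cfsg.Prelude
import Cfsg.Agent.Lib.Helper72.HH3

set_option autoImplicit false

/-! Non-faithful core lemma (helper72): `X` of prime order `r` normalizing a `q`-group `Q`, both
acting on an elementary abelian `p`-group `V` with `C_V(X) = 1`; then `[Q, X]` centralizes `V`
(unless `q = 2`, `r` Fermat and `Q` non-abelian).  Relative to the statement of S3764. -/

namespace Cfsg.Agent.Lib.Helper72

open Subgroup
open scoped commutatorElement

universe u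

/-- the statement of S3764 in universe `u`. -/
def S3764Stmt : Prop :=
  ∀ (G : Type u) [Group G] [Finite G] (p q r : ℕ), p.Prime → q.Prime → r.Prime → p ≠ q → p ≠ r →
    q ≠ r → ∀ (X Q V : Subgroup G), Nat.card X = r → Cfsg.IsExtraspecial q ↥Q →
    X ≤ normalizer (Q : Set G) →
    Q ⊓ centralizer (X : Set G) = (center ↥Q).map Q.subtype →
    Cfsg.IsElementaryAbelian p V → X ≤ normalizer (V : Set G) → Q ≤ normalizer (V : Set G) →
    (X ⊔ Q) ⊓ centralizer (V : Set G) = ⊥ → V ⊓ centralizer (X : Set G) = ⊥ →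
    q = 2 ∧ ∃ n : ℕ, r = 2 ^ n + 1 ∧ Nat.card Q = 2 ^ (2 * n + 1)

theorem MinCfg.false (h3764 : S3764Stmt.{u}) {G : Type u} [Group G] [Finite G] {p q r : ℕ}
    [Fact p.Prime] [Fact q.Prime] [Fact r.Prime] {X Q V : Subgroup G} (h : MinCfg p q r X Q V)
    (hpq : p ≠ q) (hpr : p ≠ r) (hqr : q ≠ r) : False := by
  obtain ⟨h2, n, hn, _⟩ := h3764 G p q r Fact.out Fact.out Fact.out hpq hpr hqr X Q V h.hX
    (h.extraspecial hpq hqr) h.hXQ (by rw [map_center_subtype, h.CX_eq_center hpq hqr])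
    h.hV h.hXV h.hQV (h.faithful hqr) h.hCV
  exact h.not_comm hpq hqr (h.hexc h2 ⟨n, hn⟩)

theorem lemmaA_aux (h3764 : S3764Stmt.{u}) {p q r : ℕ}
    [Fact p.Prime] [Fact q.Prime] [Fact r.Prime] (hpq : p ≠ q) (hpr : p ≠ r) (hqr : q ≠ r) :
    ∀ (n : ℕ) (G : Type u) [Group G] [Finite G] (X Q V : Subgroup G),
      Nat.card Q + Nat.card V = n → Cfg p q r X Q V → ⁅Q, X⁆ ≤ centralizer (V : Set G) := by
  intro n
  induction n using Nat.strong_induction_on with
  | _ n ih =>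
  intro G _ _ X Q V hn h
  by_contra hcon
  have hD : Q ⊓ centralizer (V : Set G) = ⊥ := by
    by_contra hD
    apply hcon
    apply h.of_bar hpq
    obtain ⟨hXD, hQD, hVD⟩ := h.le_normalizer_D
    refine ih _ ?_ (Bar.QG _) _ _ _ rfl (h.bar hpq hqr)
    have h1 : Nat.card (Bar.img (Q ⊓ centralizer (V : Set G)) Q) < Nat.card Q :=
      Bar.card_img_lt hQD (by rwa [inf_eq_right.2 inf_le_left])
    have h2 := Bar.card_img_le hVD
    omega
  refine MinCfg.false h3764 (X := X) (Q := Q) (V := V) ?_ hpq hpr hqr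
  refine { h with faith := hD, minQ := ?_, minV := ?_, ne := ?_ }
  · intro Q₁ hlt hX1
    have hc : Cfg p q r X Q₁ V := by
      refine ⟨h.hX, h.hQ.to_le hlt.le, hX1, h.hV, h.hXV, hlt.le.trans h.hQV, h.hCV, ?_⟩
      intro a b
      have := h.hexc a b
      refine ⟨⟨fun x y => Subtype.ext ?_⟩⟩
      exact congrArg (Subtype.val : Q → G) (mul_comm' (⟨x.1, hlt.le x.2⟩ : Q) ⟨y.1, hlt.le y.2⟩)
    have h1 := Cfsg.Agent.Lib.Helper22.natCard_lt_of_lt hlt
    have h2 := ih (Nat.card Q₁ + Nat.card V) (by omega) G X Q₁ V rfl hc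
    rw [eq_bot_iff, ← hD]
    exact le_inf ((le_normalizer_iff_commutator_le_left.1 hX1).trans hlt.le) h2
  · intro V₁ hlt hX1 hQ1
    have hc : Cfg p q r X Q V₁ := by
      refine ⟨h.hX, h.hQ, h.hXQ, ⟨?_, fun a ha => h.hV.2 a (hlt.le ha)⟩, hX1, hQ1, ?_, h.hexc⟩
      · exact ⟨⟨fun x y => Subtype.ext (h.commV x.1 (hlt.le x.2) y.1 (hlt.le y.2))⟩⟩
      · rw [eq_bot_iff, ← h.hCV]
        exact inf_le_inf_right _ hlt.le
    have h1 := Cfsg.Agent.Lib.Helper22.natCard_lt_of_lt hlt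
    exact ih (Nat.card Q + Nat.card V₁) (by omega) G X Q V₁ rfl hc
  · intro he
    apply hcon
    rw [he]
    exact bot_le

/-- **Core lemma.** -/
theorem lemmaA (h3764 : S3764Stmt.{u}) {G : Type u} [Group G] [Finite G] {p q r : ℕ}
    (hp : p.Prime) (hq : q.Prime) (hr : r.Prime) (hpq : p ≠ q) (hpr : p ≠ r) (hqr : q ≠ r)
    (X Q V : Subgroup G) (hX : Nat.card X = r) (hQ : IsPGroup q Q)
    (hXQ : X ≤ normalizer (Q : Set G)) (hV : Cfsg.IsElementaryAbelian p V)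
    (hXV : X ≤ normalizer (V : Set G)) (hQV : Q ≤ normalizer (V : Set G))
    (hCV : V ⊓ centralizer (X : Set G) = ⊥)
    (hexc : q = 2 → (∃ n : ℕ, r = 2 ^ n + 1) → IsMulCommutative Q) :
    ⁅Q, X⁆ ≤ centralizer (V : Set G) := by
  have : Fact p.Prime := ⟨hp⟩
  have : Fact q.Prime := ⟨hq⟩
  have : Fact r.Prime := ⟨hr⟩
  exact lemmaA_aux h3764 hpq hpr hqr _ G X Q V rfl ⟨hX, hQ, hXQ, hV, hXV, hQV, hCV, hexc⟩

end Cfsg.Agent.Lib.Helper72
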