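import Mathlib
import Cfsg.Prelude
import Cfsg.Agent.Lib.Helper72.HH4
import Cfsg.Agent.Lib.Helper1.Tools

set_option autoImplicit false

/-! S3765 and S3769 relative to the statement of S3764 (helper72). -/

namespace Cfsg.Agent.Lib.Helper72

open Subgroup
open scoped commutatorElement

universe u

theorem S3765_of (h3764 : S3764Stmt.{u}) {G : Type u} [Group G] [Finite G] {p q r : ℕ}
    (hp : p.Prime) (hq : q.Prime) (hr : r.Prime) (hpq : p ≠ q) (hpr : p ≠ r) (hqr : q ≠ r)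
    (X Q V : Subgroup G) (hX : Nat.card X = r) (hQ : IsPGroup q Q)
    (hXQ : X ≤ Subgroup.normalizer (Q : Set G))
    (hXfaith : X ⊓ Subgroup.centralizer (Q : Set G) = ⊥) (hV : Cfsg.IsElementaryAbelian p V)
    (hXV : X ≤ Subgroup.normalizer (V : Set G))
    (hQV : Q ≤ Subgroup.normalizer (V : Set G))
    (hfaith : (X ⊔ Q) ⊓ Subgroup.centralizer (V : Set G) = ⊥)
    (hexc : q = 2 → (∃ n : ℕ, r = 2 ^ n + 1) → IsMulCommutative Q) :
    V ⊓ Subgroup.centralizer (X : Set G) ≠ ⊥ := by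
  intro hCV
  have h1 := lemmaA h3764 hp hq hr hpq hpr hqr X Q V hX hQ hXQ hV hXV hQV hCV hexc
  have h2 : ⁅Q, X⁆ ≤ (X ⊔ Q) ⊓ Subgroup.centralizer (V : Set G) :=
    le_inf ((le_normalizer_iff_commutator_le_left.1 hXQ).trans le_sup_right) h1
  rw [hfaith, le_bot_iff, commutator_comm, commutator_eq_bot_iff_le_centralizer] at h2
  have h3 : X = ⊥ := by rw [← hXfaith]; exact (inf_eq_left.2 h2).symm
  rw [h3, card_bot] at hX
  exact hr.one_lt.ne hX

/-- elements of `N(C)` acting trivially on `R` modulo `C`. -/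
def trivMod {G : Type*} [Group G] (C R : Subgroup G) : Subgroup G where
  carrier := {g | g ∈ normalizer (C : Set G) ∧ ∀ x ∈ R, ⁅g, x⁆ ∈ C}
  one_mem' := ⟨Subgroup.one_mem _, fun x _ => by
    rw [commutatorElement_one_left]; exact C.one_mem⟩
  mul_mem' := by
    rintro a b ⟨ha, ha'⟩ ⟨hb, hb'⟩
    refine ⟨Subgroup.mul_mem _ ha hb, fun x hx => ?_⟩
    have h1 : ⁅a * b, x⁆ = a * ⁅b, x⁆ * a⁻¹ * ⁅a, x⁆ := by
      simp only [commutatorElement_def]; group
    rw [h1]
    exact C.mul_mem ((mem_normalizer_iff.1 ha _).1 (hb' x hx)) (ha' x hx)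
  inv_mem' := by
    rintro a ⟨ha, ha'⟩
    refine ⟨Subgroup.inv_mem _ ha, fun x hx => ?_⟩
    have h1 : ⁅a⁻¹, x⁆ = a⁻¹ * ⁅a, x⁆⁻¹ * a⁻¹⁻¹ := by
      simp only [commutatorElement_def]; group
    rw [h1]
    exact (mem_normalizer_iff.1 (Subgroup.inv_mem _ ha) _).1 (C.inv_mem (ha' x hx))

theorem S3769_of (h3764 : S3764Stmt.{u}) {X : Type u} [Group X] [Finite X] (G : Subgroup X)
    (hodd : Odd (Nat.card G)) (V : Subgroup X) {ℓ : ℕ}
    (hℓ : ℓ.Prime) (hV : Cfsg.IsElementaryAbelian ℓ V) (hℓG : ¬ ℓ ∣ Nat.card G)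
    (hGV : G ≤ Subgroup.normalizer (V : Set X)) (K R : Subgroup X) (hKG : K ≤ G)
    (hKn : G ≤ Subgroup.normalizer (K : Set X)) (hHall : (Nat.card K).Coprime (K.relIndex G))
    (hRG : R ≤ G) (hR : (Nat.card R).Prime) (hKR : K ⊓ R = ⊥) (hKRG : K ⊔ R = G)
    (hCV : V ⊓ Subgroup.centralizer (R : Set X) = ⊥) :
    ⁅R, K⁆ ≤ Subgroup.centralizer (V : Set X) := by
  have hRK : R ≤ normalizer (K : Set X) := hRG.trans hKn
  have hrel : K.relIndex G = Nat.card R := by
    have h1 := Cfsg.Agent.Lib.Helper1.card_sup_of_disjoint hRK (disjoint_iff.2 (by rwa [inf_comm]))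
    rw [sup_comm, hKRG] at h1
    have h2 := Cfsg.Agent.Lib.Helper1.relIndex_mul_card hKG
    rw [h1] at h2
    exact Nat.eq_of_mul_eq_mul_right Nat.card_pos h2
  rw [hrel] at hHall
  have : Fact (Nat.card R).Prime := ⟨hR⟩
  have hrK : ¬ Nat.card R ∣ Nat.card K := by
    intro h
    have := Nat.Coprime.eq_one_of_dvd hHall.symm h
    exact hR.one_lt.ne' this
  have hRp : IsPGroup (Nat.card R) R := IsPGroup.of_card (n := 1) (pow_one _).symm
  have hNC : G ≤ normalizer ((centralizer (V : Set X) : Subgroup X) : Set X) := by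
    have := Cfsg.Agent.Lib.Helper22.le_normalizer_inf_centralizer (A := G) (K := ⊤) (B := V)
      (by rw [normalizer_eq_top (H := (⊤ : Subgroup X))]; exact le_top) hGV
    simpa using this
  have key : K ≤ trivMod (centralizer (V : Set X)) R := by
    apply Cfsg.Agent.Lib.Helper22.le_of_forall_isSylowIn_le
    intro q hq
    have : Fact q.Prime := ⟨hq⟩
    obtain ⟨Q, hQ, hRQ⟩ := Cfsg.Agent.Lib.Helper22.exists_invariant_isSylowIn R K hRp hrK hRK q
    refine ⟨Q, hQ, ?_⟩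
    by_cases hQ1 : Q = ⊥
    · rw [hQ1]; exact bot_le
    have hqQ : q ∣ Nat.card Q := by
      rcases hQ.isPGroup.card_eq_or_dvd with h | h
      · exact absurd ((Subgroup.card_eq_one).1 h) hQ1
      · exact h
    have hqK : q ∣ Nat.card K := hqQ.trans (card_dvd_of_le hQ.le)
    have hqG : q ∣ Nat.card G := hqK.trans (card_dvd_of_le hKG)
    have h1 := lemmaA h3764 hℓ hq hR (by rintro rfl; exact hℓG hqG)
      (by rintro rfl; exact hℓG (card_dvd_of_le hRG)) (by rintro rfl; exact hrK hqK) R Q V rfl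
      hQ.isPGroup hRQ hV (hRG.trans hGV) ((hQ.le.trans hKG).trans hGV) hCV
      (by
        rintro rfl _
        exact absurd (even_iff_two_dvd.2 hqG) (Nat.not_even_iff_odd.2 hodd))
    intro a ha
    exact ⟨hNC (hKG (hQ.le ha)), fun x hx => h1 (commutator_mem_commutator ha hx)⟩
  rw [commutator_comm, commutator_le]
  intro a ha x hx
  exact (key ha).2 x hx

end Cfsg.Agent.Lib.Helper72
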