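import Mathlib
import Cfsg.Prelude
import Cfsg.Agent.S3764
import Cfsg.Agent.Lib.Helper72.HH5
import Cfsg.Agent.Lib.Helper1.Coprime2

set_option autoImplicit false

/-! Towards BG 3.7 (S1445), part 1 (helper72). -/

namespace Cfsg.Agent.Lib.Helper72

open Subgroup
open scoped commutatorElement

universe u

theorem h3764 : S3764Stmt.{u} :=
  fun _ _ _ _ _ _ hp hq hr hpq hpr hqr X Q V hX hQ hXQ hCQ hV hXV hQV hfaith hCV =>
    Cfsg.Agent.S3764.result hp hq hr hpq hpr hqr X Q V hX hQ hXQ hCQ hV hXV hQV hfaith hCV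

variable {G : Type u} [Group G] [Finite G]

/-- coprime action trivial on the Frattini quotient is trivial. -/
theorem le_centralizer_of_commutator_le_frattini {P T : Subgroup G}
    (hTP : T ≤ normalizer (P : Set G)) (hcop : (Nat.card T).Coprime (Nat.card P))
    (hsolv : Group.IsSolvable P) (h : ⁅P, T⁆ ≤ (frattini ↥P).map P.subtype) :
    T ≤ centralizer (P : Set G) := by
  have h1 := Cfsg.Agent.Lib.Helper1.commutator_sup_centralizer T P hTP hcop (Or.inr hsolv)
  have hΦ : (frattini ↥P).map P.subtype ≤ P := map_subtype_le _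
  have h2 : (P ⊓ centralizer (T : Set G)) ⊔ (frattini ↥P).map P.subtype = P := by
    apply le_antisymm (sup_le inf_le_left hΦ)
    conv_lhs => rw [← h1]
    exact sup_le (h.trans le_sup_right) le_sup_left
  have h3 : ((P ⊓ centralizer (T : Set G)).subgroupOf P) ⊔ frattini ↥P = ⊤ := by
    have h4 : ((P ⊓ centralizer (T : Set G)) ⊔ (frattini ↥P).map P.subtype).subgroupOf P =
        P.subgroupOf P := by rw [h2]
    rw [subgroupOf_sup inf_le_left hΦ, subgroupOf_self] at h4
    have h5 : ((frattini ↥P).map P.subtype).subgroupOf P = frattini ↥P :=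
      comap_map_eq_self_of_injective (subtype_injective P) _
    rwa [h5] at h4
  have h6 := frattini_nongenerating h3
  rw [subgroupOf_eq_top] at h6
  exact le_centralizer_iff.1 (h6.trans inf_le_right)

theorem K1 (hodd : Odd (Nat.card G)) {k s r : ℕ} (hk : k.Prime) (hs : s.Prime) (hr : r.Prime)
    (hks : k ≠ s) (hkr : k ≠ r) (hsr : s ≠ r) (A W P : Subgroup G) (hA : Nat.card A = r)
    (hW : IsPGroup s W) (hP : IsPGroup k P) (hAW : A ≤ normalizer (W : Set G))
    (hAP : A ≤ normalizer (P : Set G)) (hWP : W ≤ normalizer (P : Set G))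
    (hCP : P ⊓ centralizer (A : Set G) = ⊥) : ⁅W, A⁆ ≤ centralizer (P : Set G) := by
  have : Fact k.Prime := ⟨hk⟩
  have : Fact s.Prime := ⟨hs⟩
  have : Fact r.Prime := ⟨hr⟩
  by_cases hW1 : W = ⊥
  · rw [hW1, commutator_bot_left]; exact bot_le
  have hs2 : s ≠ 2 := by
    rintro rfl
    have h1 : 2 ∣ Nat.card W := by
      rcases hW.card_eq_or_dvd with h | h
      · exact absurd ((Subgroup.card_eq_one).1 h) hW1
      · exact h
    have h2 : 2 ∣ Nat.card G := h1.trans (card_subgroup_dvd_card W)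
    exact absurd (even_iff_two_dvd.2 h2) (Nat.not_even_iff_odd.2 hodd)
  set D := (frattini ↥P).map P.subtype with hD
  have hDP : D ≤ P := map_subtype_le _
  have hND : normalizer (P : Set G) ≤ normalizer (D : Set G) :=
    Cfsg.Agent.Lib.Helper46.CharSub.normalizer_le_of_characteristic P _ inferInstance
  have hAD := hAP.trans hND
  have hWD := hWP.trans hND
  have hPD : P ≤ normalizer (D : Set G) := le_normalizer.trans hND
  have hAr : IsPGroup r A := IsPGroup.of_card (n := 1) (by rw [hA, pow_one])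
  have hcopAP : (Nat.card A).Coprime (Nat.card P) :=
    IsPGroup.coprime_card_of_ne r k hkr.symm A P hAr hP
  have hPsolv : Group.IsSolvable P := by
    have : Group.IsNilpotent P := hP.isNilpotent
    infer_instance
  have hder : ⁅P, P⁆ ≤ D := by
    rw [← P.map_subtype_commutator]
    exact map_mono (Cfsg.Agent.Lib.Helper2.commutator_le_frattini hP)
  have key := lemmaA h3764 hk hs hr hks hkr hsr (Bar.img D A) (Bar.img D W) (Bar.img D P)
    (by
      rw [Bar.card_img_of_disjoint hAD, hA]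
      rw [eq_bot_iff]
      exact (inf_le_inf_left _ hDP).trans
        (IsPGroup.disjoint_of_ne r k hkr.symm A P hAr hP).eq_bot.le)
    (Bar.isPGroup_img hW) (Bar.img_le_normalizer hAW)
    ⟨Bar.isMulCommutative_img hder, by
      intro y hy
      obtain ⟨v, hN, hv, rfl⟩ := Bar.mem_img.1 hy
      rw [← map_pow]
      refine (Bar.pr_eq_one_iff (g := v ^ k) _).2 ?_
      exact ⟨⟨v, hv⟩ ^ k, Cfsg.Agent.Lib.Helper2.pow_p_mem_frattini hP _, rfl⟩⟩
    (Bar.img_le_normalizer hAP) (Bar.img_le_normalizer hWP)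
    (by
      rw [eq_bot_iff]
      intro y hy
      obtain ⟨hy1, hy2⟩ := mem_inf.1 hy
      obtain ⟨v, hN, hv, rfl⟩ := Bar.mem_img.1 hy1
      rw [mem_bot]
      obtain ⟨d, hd, hvd⟩ := Cfsg.Agent.Lib.Helper1.exists_fixed_in_coset A P D hAP hcopAP
        (Or.inr hPsolv) hDP hAD v hv (by
          intro a ha
          have h1 := (mem_centralizer_iff.1 hy2) (Bar.pr D ⟨a, hAD ha⟩) (Bar.pr_mem_img _ ha)
          have h2 : Bar.pr D (⟨v, hN⟩⁻¹ * ⟨a, hAD ha⟩ * ⟨v, hN⟩ * ⟨a, hAD ha⟩⁻¹) = 1 := by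
            rw [map_mul, map_mul, map_mul, map_inv, map_inv, mul_assoc ((Bar.pr D) ⟨v, hN⟩)⁻¹, h1]
            group
          exact (Bar.pr_eq_one_iff (g := v⁻¹ * a * v * a⁻¹) _).1 h2)
      rw [hCP, mem_bot] at hvd
      refine (Bar.pr_eq_one_iff _).2 ?_
      have : v = d⁻¹ := eq_inv_of_mul_eq_one_left hvd
      rw [this]
      exact D.inv_mem hd)
    (fun h2 => absurd h2 hs2)
  rw [← Bar.img_commutator hWD hAD] at key
  have hTW : ⁅W, A⁆ ≤ W := le_normalizer_iff_commutator_le_left.1 hAW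
  apply le_centralizer_of_commutator_le_frattini (hTW.trans hWP)
    (IsPGroup.coprime_card_of_ne s k hks.symm _ P (hW.to_le hTW) hP) hPsolv
  rw [commutator_le]
  intro v hv t ht
  have htN : t ∈ normalizer (D : Set G) := hWD (hTW ht)
  have h1 := (mem_centralizer_iff.1 (key (Bar.pr_mem_img htN ht))) (Bar.pr D ⟨v, hPD hv⟩)
    (Bar.pr_mem_img _ hv)
  have h2 : Bar.pr D (⟨v, hPD hv⟩ * ⟨t, htN⟩ * ⟨v, hPD hv⟩⁻¹ * ⟨t, htN⟩⁻¹) = 1 := by
    rw [map_mul, map_mul, map_mul, map_inv, map_inv, h1]; group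
  exact (Bar.pr_eq_one_iff (g := v * t * v⁻¹ * t⁻¹) _).1 h2

end Cfsg.Agent.Lib.Helper72
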