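/-
Helper library (helper72): pieces LC and LD of the proof of Bender–Glauberman Theorem 13.9 (S1378).
-/
import Cfsg.Agent.S1545
import Cfsg.Agent.Lib.Helper9.BG12g
import Cfsg.Agent.Lib.Helper22.SupLemmas
import Cfsg.Agent.Lib.Lead.FrobeniusComplement

set_option autoImplicit false
set_option linter.unusedSimpArgs false
set_option linter.unusedVariables false
set_option linter.style.haveILetI false
set_option linter.unusedSectionVars false

namespace Cfsg.Agent.Lib.Helper72.BG139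

open Cfsg Cfsg.Agent.Lib.Helper34 Cfsg.Agent.Lib.Helper24

universe u

variable {G : Type u} [Group G]

/-- A subgroup of prime order is generated by each of its nontrivial elements, so an element
commuting with one nontrivial element centralizes the subgroup. -/
theorem mem_centralizer_of_prime_card [Finite G] {P : Subgroup G} {p : ℕ} (hp : p.Prime)
    (hPc : Nat.card P = p) {e u : G} (he : e ∈ P) (he1 : e ≠ 1) (hc : e * u = u * e) :
    u ∈ Subgroup.centralizer (P : Set G) := by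
  haveI : Fact p.Prime := ⟨hp⟩
  have hz : Subgroup.zpowers e = P := by
    have hle : Subgroup.zpowers e ≤ P := (Subgroup.zpowers_le).2 he
    refine Subgroup.eq_of_le_of_card_ge hle ?_
    have h1 : Nat.card (Subgroup.zpowers e) ∣ p := hPc ▸ Subgroup.card_dvd_of_le hle
    rcases (Nat.dvd_prime hp).1 h1 with h | h
    · exfalso
      rw [Nat.card_zpowers, orderOf_eq_one_iff] at h
      exact he1 h
    · rw [h, hPc]
  rw [← hz, Subgroup.mem_centralizer_iff]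
  intro x hx
  obtain ⟨k, rfl⟩ := Subgroup.mem_zpowers_iff.1 hx
  exact ((Commute.zpow_left (show Commute e u from hc) k)).eq

/-- **LC** (BG 13.9, step (B)): a Frobenius-like group `S P` acting coprimely on a solvable group `B`
on which `S` acts nontrivially: `P` has nontrivial fixed points on `B`. -/
theorem LC [Finite G] (S P B : Subgroup G) {p : ℕ} (hp : p.Prime)
    (hS1 : S ≠ ⊥) (hPc : Nat.card P = p) (hPS : P ≤ Subgroup.normalizer (S : Set G))
    (hfpf : S ⊓ Subgroup.centralizer (P : Set G) = ⊥)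
    (hSB : S ≤ Subgroup.normalizer (B : Set G)) (hPB : P ≤ Subgroup.normalizer (B : Set G))
    (hsolv : Group.IsSolvable B) (hcS : (Nat.card B).Coprime (Nat.card S))
    (hcP : (Nat.card B).Coprime p)
    (hBS : ¬ B ≤ Subgroup.centralizer (S : Set G)) :
    B ⊓ Subgroup.centralizer (P : Set G) ≠ ⊥ := by
  intro hbot
  have hP1 : P ≠ ⊥ := by
    rintro rfl
    rw [Subgroup.card_bot] at hPc
    exact hp.one_lt.ne hPc
  have hf : ∀ e ∈ P, e ≠ 1 → ∀ u ∈ S, e * u = u * e → u = 1 := by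
    intro e he he1 u hu hc
    have h1 : u ∈ S ⊓ Subgroup.centralizer (P : Set G) :=
      Subgroup.mem_inf.2 ⟨hu, mem_centralizer_of_prime_card hp hPc he he1 hc⟩
    rw [hfpf] at h1
    exact Subgroup.mem_bot.1 h1
  have hUE : S ⊓ P = ⊥ := by
    rw [eq_bot_iff]
    intro x hx
    obtain ⟨hxS, hxP⟩ := Subgroup.mem_inf.1 hx
    by_contra hx1
    exact hx1 (Subgroup.mem_bot.2 (hf x hxP (fun h => hx1 (Subgroup.mem_bot.2 h)) x hxS rfl))
  have hcop : Nat.Coprime (Nat.card B) (Nat.card ↥(S ⊔ P)) := by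
    refine Nat.Coprime.coprime_dvd_right (Cfsg.Agent.Lib.Helper22.card_sup_dvd hPS) ?_
    rw [hPc]
    exact Nat.Coprime.mul_right hcS hcP
  have key := Cfsg.Agent.S1545.result S P B hS1 hP1 hUE
    (fun e he u hu => (Subgroup.mem_normalizer_iff.1 (hPS he) u).1 hu) hf
    (fun x hx h hh => (Subgroup.mem_normalizer_iff.1 ((sup_le hSB hPB) hx) h).1 hh)
    ((Subgroup.disjoint_of_coprime_natCard hcop).eq_bot) hsolv hcop
  have h2 : B ⊓ Subgroup.centralizer ((S ⊔ P : Subgroup G) : Set G) = ⊥ := by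
    rw [eq_bot_iff, ← hbot]
    exact inf_le_inf_left _ (Subgroup.centralizer_le (SetLike.coe_subset_coe.2 le_sup_right))
  rw [hbot, h2, Subgroup.card_bot, one_pow, one_mul, one_mul] at key
  apply hBS
  have h3 : B ⊓ Subgroup.centralizer (S : Set G) = B :=
    Subgroup.eq_of_le_of_card_ge inf_le_left key.le
  rw [← h3]
  exact inf_le_right

/-- A subgroup `T` of `J` normalized by the Hall subgroup `B` of `J`, of order prime to `|J : B|`,
lies in `B`. -/
theorem le_of_normalized_coprime [Finite G] {J B T : Subgroup G} (hBJ : B ≤ J) (hTJ : T ≤ J)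
    (hBT : B ≤ Subgroup.normalizer (T : Set G)) {c : ℕ} (hJ : Nat.card J = Nat.card B * c)
    (hT : (Nat.card T).Coprime c) (hB : (Nat.card B).Coprime c) : T ≤ B := by
  have h1 : Nat.card (T ⊔ B : Subgroup G) ∣ Nat.card T * Nat.card B :=
    Cfsg.Agent.Lib.Helper22.card_sup_dvd hBT
  have h2 : Nat.card (T ⊔ B : Subgroup G) ∣ Nat.card B * c :=
    hJ ▸ Subgroup.card_dvd_of_le (sup_le hTJ hBJ)
  have h3 : (Nat.card (T ⊔ B : Subgroup G)).Coprime c :=
    Nat.Coprime.coprime_dvd_left h1 (Nat.Coprime.mul_left hT hB)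
  have h4 : Nat.card (T ⊔ B : Subgroup G) ∣ Nat.card B := h3.dvd_of_dvd_mul_right h2
  have h5 : B = T ⊔ B :=
    Subgroup.eq_of_le_of_card_ge le_sup_right (Nat.le_of_dvd Nat.card_pos h4)
  rw [h5]
  exact le_sup_left

/-- Abstract core of **LD**: two nontrivial Hall subgroups `B₁`, `C₁` of coprime orders of a solvable
group `H₀`: after conjugating `C₁` in `H₀`, one of them normalizes a nontrivial subgroup of the
other. -/
theorem hall_pair [Finite G] {H0 B1 C1 : Subgroup G} (hsolv : Group.IsSolvable H0)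
    (hB : B1 ≤ H0) (hC : C1 ≤ H0) (hB1 : B1 ≠ ⊥)
    (hBh : (Nat.card B1).Coprime (B1.relIndex H0)) (hCh : (Nat.card C1).Coprime (C1.relIndex H0))
    (hBC : (Nat.card B1).Coprime (Nat.card C1)) :
    ∃ h ∈ H0, ∃ T : Subgroup G, T ≠ ⊥ ∧
      ((T ≤ B1 ∧ cj h C1 ≤ Subgroup.normalizer (T : Set G)) ∨
       (T ≤ cj h C1 ∧ B1 ≤ Subgroup.normalizer (T : Set G))) := by
  haveI := hsolv
  have eB : B1.relIndex H0 * Nat.card B1 = Nat.card H0 := Cfsg.Agent.Lib.Helper1.relIndex_mul_card hB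
  have eC : C1.relIndex H0 * Nat.card C1 = Nat.card H0 := Cfsg.Agent.Lib.Helper1.relIndex_mul_card hC
  obtain ⟨n, hn⟩ : Nat.card B1 * Nat.card C1 ∣ Nat.card H0 :=
    Nat.Coprime.mul_dvd_of_dvd_of_dvd hBC (Subgroup.card_dvd_of_le hB) (Subgroup.card_dvd_of_le hC)
  have hBn : (Nat.card B1).Coprime n := by
    refine Nat.Coprime.coprime_dvd_right ?_ hBh
    refine ⟨Nat.card C1, ?_⟩
    apply Nat.eq_of_mul_eq_mul_right (Nat.card_pos (α := B1))
    rw [eB, hn]; ring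
  have hCn : (Nat.card C1).Coprime n := by
    refine Nat.Coprime.coprime_dvd_right ?_ hCh
    refine ⟨Nat.card B1, ?_⟩
    apply Nat.eq_of_mul_eq_mul_right (Nat.card_pos (α := C1))
    rw [eC, hn]; ring
  have hcop : (Nat.card B1 * Nat.card C1).Coprime n := Nat.Coprime.mul_left hBn hCn
  obtain ⟨J', hJ'c, hJ'B⟩ := Cfsg.Agent.Lib.Helper1.hall_dominance (G := H0) _ n hn hcop
    (B1.subgroupOf H0)
    (by rw [Nat.card_congr (Subgroup.subgroupOfEquivOfLe hB).toEquiv]; exact hBn)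
  set J : Subgroup G := J'.map H0.subtype with hJdef
  have hJH : J ≤ H0 := Subgroup.map_subtype_le J'
  have hJc : Nat.card J = Nat.card B1 * Nat.card C1 := by
    rw [hJdef, Subgroup.card_map_of_injective H0.subtype_injective, hJ'c]
  have hBJ : B1 ≤ J := by
    rw [← Subgroup.map_subgroupOf_eq_of_le hB]
    exact Subgroup.map_mono hJ'B
  obtain ⟨l, hl, hlJ⟩ := Cfsg.Agent.Lib.Helper9.BG12.hall_conj_into hsolv hJH hC hn hcop
    (by rw [hJc]) hCn
  have hJs : Group.IsSolvable J := Cfsg.Agent.Lib.Helper9.BG12.isSolvable_of_le' hsolv hJH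
  have hJ1 : J ≠ ⊥ := fun h => hB1 (eq_bot_iff.2 (h ▸ hBJ))
  obtain ⟨r, T, hr, hTJ, hT1, hTp, hJT⟩ := exists_normal_pSubgroup_rel hJs hJ1
  haveI : Fact r.Prime := ⟨hr⟩
  obtain ⟨k, hk⟩ := (IsPGroup.iff_card.1 hTp)
  have hk0 : k ≠ 0 := by
    rintro rfl
    rw [pow_zero] at hk
    exact hT1 ((Subgroup.card_eq_one).1 hk)
  have hrT : r ∣ Nat.card T := hk ▸ dvd_pow_self r hk0
  have hrJ : r ∣ Nat.card B1 * Nat.card C1 := hJc ▸ hrT.trans (Subgroup.card_dvd_of_le hTJ)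
  have hcl : Nat.card (cj l C1) = Nat.card C1 := card_map_conj l C1
  refine ⟨l, hl, T, hT1, ?_⟩
  rcases (Nat.Prime.dvd_mul hr).1 hrJ with h | h
  · left
    refine ⟨le_of_normalized_coprime hBJ hTJ (hBJ.trans hJT) hJc ?_ hBC, hlJ.trans hJT⟩
    rw [hk]
    refine Nat.Coprime.pow_left k ((Nat.Prime.coprime_iff_not_dvd hr).2 fun h' => ?_)
    exact hr.one_lt.ne' (Nat.eq_one_of_dvd_coprimes hBC h h')
  · right
    refine ⟨le_of_normalized_coprime hlJ hTJ (hlJ.trans hJT) (c := Nat.card B1)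
      (by rw [hJc, hcl, mul_comm]) ?_ (by rw [hcl]; exact hBC.symm), hBJ.trans hJT⟩
    rw [hk]
    refine Nat.Coprime.pow_left k ((Nat.Prime.coprime_iff_not_dvd hr).2 fun h' => ?_)
    exact hr.one_lt.ne' (Nat.eq_one_of_dvd_coprimes hBC h' h)

/-- A subgroup `T` of `M` of order prime to the index of the normal Hall subgroup `B` of `M`
lies in `B`. -/
theorem le_normal_hall [Finite G] {M B T : Subgroup G} (hBM : B ≤ M) (hTM : T ≤ M)
    (hMB : M ≤ Subgroup.normalizer (B : Set G)) (hBh : (Nat.card B).Coprime (B.relIndex M))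
    (hT : (Nat.card T).Coprime (B.relIndex M)) : T ≤ B := by
  have h1 : Nat.card (B ⊔ T : Subgroup G) ∣ Nat.card B * Nat.card T :=
    Cfsg.Agent.Lib.Helper22.card_sup_dvd (hTM.trans hMB)
  have h2 : Nat.card (B ⊔ T : Subgroup G) ∣ B.relIndex M * Nat.card B :=
    (Cfsg.Agent.Lib.Helper1.relIndex_mul_card hBM) ▸ Subgroup.card_dvd_of_le (sup_le hBM hTM)
  have h3 : (Nat.card (B ⊔ T : Subgroup G)).Coprime (B.relIndex M) :=
    Nat.Coprime.coprime_dvd_left h1 (Nat.Coprime.mul_left hBh hT)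
  have h4 : Nat.card (B ⊔ T : Subgroup G) ∣ Nat.card B := h3.dvd_of_dvd_mul_left h2
  have h5 : B = B ⊔ T :=
    Subgroup.eq_of_le_of_card_ge le_sup_left (Nat.le_of_dvd Nat.card_pos h4)
  rw [h5]
  exact le_sup_right

/-- If `B` is a normal Hall subgroup of `M` and `N_G(Y) ≤ M` for all `1 ≠ Y ≤ B`, then `B ∩ H₀` is a
Hall subgroup of `H₀`, for every subgroup `H₀` of `G`. -/
theorem hall_inf_of_TI [Finite G] {M B : Subgroup G} (H0 : Subgroup G) (hBM : B ≤ M)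
    (hMB : M ≤ Subgroup.normalizer (B : Set G)) (hBh : (Nat.card B).Coprime (B.relIndex M))
    (hTI : ∀ Y : Subgroup G, Y ≤ B → Y ≠ ⊥ → Subgroup.normalizer (Y : Set G) ≤ M) :
    (Nat.card (B ⊓ H0 : Subgroup G)).Coprime ((B ⊓ H0).relIndex H0) := by
  by_contra hnc
  obtain ⟨r, hr, hr1, hr2⟩ := Nat.Prime.not_coprime_iff_dvd.1 hnc
  haveI : Fact r.Prime := ⟨hr⟩
  obtain ⟨R1, hR1, -⟩ := exists_isSylowIn_ge (p := r) (L := B ⊓ H0) (R := ⊥) bot_le
    IsPGroup.of_bot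
  obtain ⟨R2, hR2, hR12⟩ := exists_isSylowIn_ge (p := r) (L := H0) (R := R1)
    (hR1.1.trans inf_le_right) hR1.2.1
  have hR1ne : R1 ≠ ⊥ := by
    rintro rfl
    have h1 := hR1.card_eq
    rw [Subgroup.card_bot] at h1
    have h2 : (Nat.card (B ⊓ H0 : Subgroup G)).factorization r ≠ 0 := by
      have := (hr.factorization_pos_of_dvd Nat.card_pos.ne' hr1)
      omega
    exact (Nat.one_lt_pow h2 hr.one_lt).ne h1
  have hne : R1 ≠ R2 := by
    rintro rfl
    apply hR2.2.2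
    rw [← Subgroup.relIndex_mul_relIndex R1 (B ⊓ H0) H0 hR1.1 inf_le_right]
    exact Dvd.dvd.mul_left hr2 _
  obtain ⟨x, hx2, hxN, hx1⟩ := Cfsg.Agent.Lib.Lead.exists_mem_normalizer_not_mem hR2.2.1
    (lt_of_le_of_ne hR12 hne)
  have hxM : x ∈ M := hTI R1 (hR1.1.trans inf_le_left) hR1ne hxN
  set R3 : Subgroup G := R1 ⊔ Subgroup.zpowers x with hR3
  have hR32 : R3 ≤ R2 := sup_le hR12 ((Subgroup.zpowers_le).2 hx2)
  have hR3p : IsPGroup r R3 := hR2.2.1.to_le hR32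
  have hR3M : R3 ≤ M :=
    sup_le (hR1.1.trans (inf_le_left.trans hBM)) ((Subgroup.zpowers_le).2 hxM)
  have hR3B : R3 ≤ B := by
    refine le_normal_hall hBM hR3M hMB hBh ?_
    obtain ⟨k, hk⟩ := IsPGroup.iff_card.1 hR3p
    rw [hk]
    refine Nat.Coprime.pow_left k ((Nat.Prime.coprime_iff_not_dvd hr).2 fun h' => ?_)
    exact hr.one_lt.ne' (Nat.eq_one_of_dvd_coprimes hBh
      (hr1.trans (Subgroup.card_dvd_of_le inf_le_left)) h')
  have heq : R1 = R3 := hR1.eq_of_le (le_inf hR3B (hR32.trans hR2.1)) hR3p le_sup_left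
  apply hx1
  rw [heq]
  exact (le_sup_right : Subgroup.zpowers x ≤ R3) (Subgroup.mem_zpowers x)

/-- **LD** (BG 13.9, step MAIN, first half). -/
theorem LD [Finite G] {M L B C H0 : Subgroup G} (hsolv : Group.IsSolvable H0)
    (hBM : B ≤ M) (hMB : M ≤ Subgroup.normalizer (B : Set G))
    (hBh : (Nat.card B).Coprime (B.relIndex M))
    (hTIB : ∀ Y : Subgroup G, Y ≤ B → Y ≠ ⊥ → Subgroup.normalizer (Y : Set G) ≤ M)
    (hCL : C ≤ L) (hLC : L ≤ Subgroup.normalizer (C : Set G))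
    (hCh : (Nat.card C).Coprime (C.relIndex L))
    (hTIC : ∀ Y : Subgroup G, Y ≤ C → Y ≠ ⊥ → Subgroup.normalizer (Y : Set G) ≤ L)
    (hBC : (Nat.card B).Coprime (Nat.card C)) (hB1 : B ⊓ H0 ≠ ⊥) :
    (∃ h ∈ H0, cj h (C ⊓ H0) ≤ M ⊓ H0) ∨ (∃ h ∈ H0, cj h (B ⊓ H0) ≤ L ⊓ H0) := by
  obtain ⟨h, hh, T, hT1, hT⟩ := hall_pair hsolv (inf_le_right : B ⊓ H0 ≤ H0)
    (inf_le_right : C ⊓ H0 ≤ H0) hB1 (hall_inf_of_TI H0 hBM hMB hBh hTIB)
    (hall_inf_of_TI H0 hCL hLC hCh hTIC)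
    (Nat.Coprime.coprime_dvd_left (Subgroup.card_dvd_of_le inf_le_left)
      (Nat.Coprime.coprime_dvd_right (Subgroup.card_dvd_of_le inf_le_left) hBC))
  have hcjH : ∀ g ∈ H0, ∀ X : Subgroup G, X ≤ H0 → cj g X ≤ H0 := by
    intro g hg X hX
    have h1 : cj g X ≤ cj g H0 := Subgroup.map_mono hX
    rwa [show cj g H0 = H0 from map_conj_eq_self_of_mem hg] at h1
  rcases hT with ⟨hTB, hN⟩ | ⟨hTC, hN⟩
  · left
    exact ⟨h, hh, le_inf (hN.trans (hTIB T (hTB.trans inf_le_left) hT1))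
      (hcjH h hh _ inf_le_right)⟩
  · right
    refine ⟨h⁻¹, H0.inv_mem hh, le_inf ?_ (hcjH _ (H0.inv_mem hh) _ inf_le_right)⟩
    have h1 : cj h⁻¹ T ≤ C ⊓ H0 := by
      have h2 : cj h⁻¹ T ≤ cj h⁻¹ (cj h (C ⊓ H0)) := Subgroup.map_mono hTC
      rwa [show cj h⁻¹ (cj h (C ⊓ H0)) = C ⊓ H0 by
        rw [show cj h⁻¹ (cj h (C ⊓ H0)) = cj (h⁻¹ * h) (C ⊓ H0) from map_conj_map_conj _ _ _,
          inv_mul_cancel]
        exact map_conj_one _] at h2
    have h3 : cj h⁻¹ T ≠ ⊥ := by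
      intro h4
      exact hT1 ((Subgroup.map_eq_bot_iff_of_injective T (MulAut.conj h⁻¹).injective).1 h4)
    have h5 : cj h⁻¹ (B ⊓ H0) ≤ cj h⁻¹ (Subgroup.normalizer (T : Set G)) := Subgroup.map_mono hN
    rw [show cj h⁻¹ (Subgroup.normalizer (T : Set G)) =
      Subgroup.normalizer ((cj h⁻¹ T : Subgroup G) : Set G) from (normalizer_map_conj _ _).symm] at h5
    exact h5.trans (hTIC _ (h1.trans inf_le_left) h3)

/-- A nontrivial subgroup contains a subgroup of prime order. -/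
theorem exists_prime_card_le [Finite G] {Y : Subgroup G} (hY : Y ≠ ⊥) :
    ∃ (X : Subgroup G) (r : ℕ), r.Prime ∧ Nat.card X = r ∧ r ∣ Nat.card Y ∧ X ≤ Y := by
  have h1 : Nat.card Y ≠ 1 := fun h => hY ((Subgroup.card_eq_one).1 h)
  obtain ⟨r, hr, hrY⟩ := Nat.exists_prime_and_dvd h1
  haveI : Fact r.Prime := ⟨hr⟩
  obtain ⟨x, hx⟩ := exists_prime_orderOf_dvd_card' r hrY
  refine ⟨Subgroup.zpowers (x : G), r, hr, ?_, hrY, (Subgroup.zpowers_le).2 x.2⟩
  rw [Nat.card_zpowers, Subgroup.orderOf_coe, hx]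

/-- **LD**, with subgroups of prime order in the conclusion. -/
theorem LD' [Finite G] {M L B C H0 : Subgroup G} (hsolv : Group.IsSolvable H0)
    (hBM : B ≤ M) (hMB : M ≤ Subgroup.normalizer (B : Set G))
    (hBh : (Nat.card B).Coprime (B.relIndex M))
    (hTIB : ∀ Y : Subgroup G, Y ≤ B → Y ≠ ⊥ → Subgroup.normalizer (Y : Set G) ≤ M)
    (hCL : C ≤ L) (hLC : L ≤ Subgroup.normalizer (C : Set G))
    (hCh : (Nat.card C).Coprime (C.relIndex L))
    (hTIC : ∀ Y : Subgroup G, Y ≤ C → Y ≠ ⊥ → Subgroup.normalizer (Y : Set G) ≤ L)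
    (hBC : (Nat.card B).Coprime (Nat.card C)) (hB1 : B ⊓ H0 ≠ ⊥) (hC1 : C ⊓ H0 ≠ ⊥) :
    (∃ (X : Subgroup G) (r : ℕ), r.Prime ∧ Nat.card X = r ∧ r ∣ Nat.card C ∧ X ≤ M ⊓ H0) ∨
    (∃ (X : Subgroup G) (r : ℕ), r.Prime ∧ Nat.card X = r ∧ r ∣ Nat.card B ∧ X ≤ L ⊓ H0) := by
  have aux : ∀ (h : G) (Y D : Subgroup G), Y ≠ ⊥ → cj h Y ≤ D →
      ∃ (X : Subgroup G) (r : ℕ), r.Prime ∧ Nat.card X = r ∧ r ∣ Nat.card Y ∧ X ≤ D := by
    intro h Y D hY hD
    have h3 : cj h Y ≠ ⊥ := by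
      intro h4
      exact hY ((Subgroup.map_eq_bot_iff_of_injective Y (MulAut.conj h).injective).1 h4)
    obtain ⟨X, r, hr, hX, hrY, hXY⟩ := exists_prime_card_le h3
    refine ⟨X, r, hr, hX, ?_, hXY.trans hD⟩
    rwa [show Nat.card (cj h Y) = Nat.card Y from card_map_conj h Y] at hrY
  rcases LD hsolv hBM hMB hBh hTIB hCL hLC hCh hTIC hBC hB1 with ⟨h, -, hh⟩ | ⟨h, -, hh⟩
  · left
    obtain ⟨X, r, hr, hX, hrY, hXD⟩ := aux h _ _ hC1 hh
    exact ⟨X, r, hr, hX, hrY.trans (Subgroup.card_dvd_of_le inf_le_left), hXD⟩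
  · right
    obtain ⟨X, r, hr, hX, hrY, hXD⟩ := aux h _ _ hB1 hh
    exact ⟨X, r, hr, hX, hrY.trans (Subgroup.card_dvd_of_le inf_le_left), hXD⟩

end Cfsg.Agent.Lib.Helper72.BG139
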