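/-
Helper library (helper72): piece LE' (claim (A) + GAP) and the whole case FPF of the proof of
Bender–Glauberman Theorem 13.9 (S1378).  Paper proof: helper24, helper87.
-/
import Cfsg.Agent.Lib.Helper72.BG139CD
import Cfsg.Agent.Lib.Helper24.BG13F
import Cfsg.Agent.Lib.Helper34.BG13a
import Cfsg.Agent.S1403
import Cfsg.Agent.S1408
import Cfsg.Agent.S1409
import Cfsg.Agent.S1414

set_option autoImplicit false
set_option linter.unusedSimpArgs false
set_option linter.unusedVariables false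
set_option linter.style.haveILetI false
set_option linter.unusedSectionVars false

namespace Cfsg.Agent.Lib.Helper72.BG139

open Cfsg Cfsg.Agent.Lib.Helper34 Cfsg.Agent.Lib.Helper24 Cfsg.Agent.Lib.Helper31.BG11
open Cfsg.Agent.Lib.Helper34.BG13

universe u

variable {G : Type u} [Group G]

theorem ut [Finite G] (hG : IsMinSimpleOddOrder G) : UT G :=
  fun K h1 h2 h3 => Cfsg.Agent.S1403.result hG K h1 h2 h3

/-- **(RK)**: for `r ∈ β(M)` and `H` maximal, not conjugate to `M`, the `r`-rank of `H` is at most 1. -/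
theorem RK [Finite G] (hG : IsMinSimpleOddOrder G) {M H : Subgroup G} (hM : IsCoatom M)
    (hH : IsCoatom H) (hnc : ¬ ∃ g, H = cj g M) {r : ℕ} (hr : r ∈ beta M) : PRankLE r 1 H := by
  haveI : Fact r.Prime := ⟨hr.1.1⟩
  have hσ : r ∉ sigma H := fun h => hnc (conj_of_alpha_sigma hG (ut hG) hM hH hr.1 h)
  have h2 : PRankLE r 2 H := by
    by_contra h
    exact hσ (alpha_subset_sigma hG (ut hG) hH ⟨hr.1.1, h⟩)
  by_contra h1
  exact (Cfsg.Agent.S1408.result hG H hH r hσ h2 h1).1 hr.2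

/-- In an `r`-group of rank one, the elements of order dividing `r` form the unique subgroup of
order `r`. -/
theorem mem_of_rank_one [Finite G] {r : ℕ} [hr : Fact r.Prime] {D X : Subgroup G}
    (hD : IsPGroup r D) (hrk : PRankLE r 1 D) (hXc : Nat.card X = r) (hXD : X ≤ D) :
    ∀ x ∈ D, x ^ r = 1 → x ∈ X := by
  have hXel : IsElementaryAbelian r X := by
    haveI : IsCyclic X := isCyclic_of_prime_card hXc
    refine ⟨⟨⟨fun a b => IsCyclic.commGroup.mul_comm a b⟩⟩, fun a ha => ?_⟩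
    have h1 : (⟨a, ha⟩ : X) ^ Nat.card X = 1 := pow_card_eq_one'
    rw [hXc] at h1
    exact congrArg Subtype.val h1
  -- an element of `D` of order dividing `r` centralizing `X` lies in `X`
  have key : ∀ x ∈ D, x ^ r = 1 → x ∈ Subgroup.centralizer (X : Set G) → x ∈ X := by
    intro x hxD hxr hxc
    have hel := elemAb_sup_zpowers hXel hxc hxr
    have hle : X ⊔ Subgroup.zpowers x ≤ D := sup_le hXD ((Subgroup.zpowers_le).2 hxD)
    have hc := (pRankLE_iff D).1 hrk _ hle hel.1 hel.2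
    rw [pow_one] at hc
    have heq : X = X ⊔ Subgroup.zpowers x :=
      Subgroup.eq_of_le_of_card_ge le_sup_left (by rw [hXc]; exact hc)
    rw [heq]
    exact (le_sup_right : Subgroup.zpowers x ≤ _) (Subgroup.mem_zpowers x)
  -- `X` is central in `D`
  have hXne : X ≠ ⊥ := by
    rintro rfl
    rw [Subgroup.card_bot] at hXc
    exact hr.out.one_lt.ne hXc
  haveI : Nontrivial D := by
    rw [Subgroup.nontrivial_iff_ne_bot]
    intro h
    exact hXne (eq_bot_iff.2 (h ▸ hXD))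
  haveI := hD.center_nontrivial
  have hZ1 : Nat.card (Subgroup.center D) ≠ 1 := by
    intro h
    exact (Subgroup.nontrivial_iff_ne_bot _).1 inferInstance ((Subgroup.card_eq_one).1 h)
  have hrZ : r ∣ Nat.card (Subgroup.center D) := by
    obtain ⟨k, hk⟩ := IsPGroup.iff_card.1 (hD.to_subgroup (Subgroup.center D))
    rw [hk]
    refine dvd_pow_self r ?_
    rintro rfl
    exact hZ1 (by rw [hk, pow_zero])
  obtain ⟨z, hz⟩ := exists_prime_orderOf_dvd_card' r hrZ
  have hzc : ∀ d ∈ D, d * ((z : D) : G) = ((z : D) : G) * d := by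
    intro d hd
    have := (Subgroup.mem_center_iff.1 z.2) ⟨d, hd⟩
    exact congrArg Subtype.val this
  have hz1 : ((z : D) : G) ≠ 1 := by
    intro h
    have h2 : z = 1 := Subtype.ext (Subtype.ext h)
    rw [h2, orderOf_one] at hz
    exact hr.out.one_lt.ne hz
  have hzr : ((z : D) : G) ^ r = 1 := by
    have h1 : z ^ r = 1 := hz ▸ pow_orderOf_eq_one z
    have h2 := congrArg (fun w : Subgroup.center D => ((w : D) : G)) h1
    simpa using h2
  have hzX : ((z : D) : G) ∈ X := by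
    refine key _ (z : D).2 hzr ?_
    rw [Subgroup.mem_centralizer_iff]
    intro y hy
    exact hzc y (hXD hy)
  intro x hxD hxr
  refine key x hxD hxr ?_
  exact mem_centralizer_of_prime_card hr.out hXc hzX hz1 (hzc x hxD).symm

theorem beta_subset_sigma [Finite G] (hG : IsMinSimpleOddOrder G) {M : Subgroup G}
    (hM : IsCoatom M) {r : ℕ} (hr : r ∈ beta M) : r ∈ sigma M :=
  alpha_subset_sigma hG (ut hG) hM hr.1

theorem bc_le (M : Subgroup G) : piCoreOf (beta M) M ≤ M := Helper23.piCoreOf_le _ _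

theorem bc_norm (M : Subgroup G) : M ≤ Subgroup.normalizer (piCoreOf (beta M) M : Set G) :=
  Helper23.le_normalizer_piCoreOf _ _

theorem bc_primes [Finite G] (M : Subgroup G) {q : ℕ} (hq : q.Prime)
    (hd : q ∣ Nat.card (piCoreOf (beta M) M)) : q ∈ beta M := Helper23.piCoreOf_primes _ _ q hq hd

theorem bc_hall [Finite G] (hG : IsMinSimpleOddOrder G) {M : Subgroup G} (hM : IsCoatom M) :
    IsPiHallOf (beta M) (piCoreOf (beta M) M) M := (Cfsg.Agent.S1414.result hG M hM).1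

theorem bc_coprime_relIndex [Finite G] (hG : IsMinSimpleOddOrder G) {M : Subgroup G}
    (hM : IsCoatom M) :
    (Nat.card (piCoreOf (beta M) M)).Coprime ((piCoreOf (beta M) M).relIndex M) := by
  by_contra hnc
  obtain ⟨r, hr, hr1, hr2⟩ := Nat.Prime.not_coprime_iff_dvd.1 hnc
  exact (bc_hall hG hM).2.2 r hr (bc_primes M hr hr1) hr2

theorem bc_coprime_of_not_mem [Finite G] (M : Subgroup G) {q : ℕ} (hq : q.Prime)
    (hqM : q ∉ beta M) : (Nat.card (piCoreOf (beta M) M)).Coprime q :=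
  ((Nat.Prime.coprime_iff_not_dvd hq).2 fun h => hqM (bc_primes M hq h)).symm

theorem fpf_of_inf [Finite G] {S P : Subgroup G} {p : ℕ} (hp : p.Prime) (hPc : Nat.card P = p)
    (hfpf : S ⊓ Subgroup.centralizer (P : Set G) = ⊥) :
    ∀ e ∈ P, e ≠ 1 → ∀ u ∈ S, e * u = u * e → u = 1 := by
  intro e he he1 u hu hc
  have h1 : u ∈ S ⊓ Subgroup.centralizer (P : Set G) :=
    Subgroup.mem_inf.2 ⟨hu, mem_centralizer_of_prime_card hp hPc he he1 hc⟩
  rw [hfpf] at h1
  exact Subgroup.mem_bot.1 h1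

theorem ne_bot_of_prime_card {P : Subgroup G} {p : ℕ} (hp : p.Prime) (hPc : Nat.card P = p) :
    P ≠ ⊥ := by
  rintro rfl
  rw [Subgroup.card_bot] at hPc
  exact hp.one_lt.ne hPc

/-- **Claim (A)** of BG 13.9, case FPF: `C_{L_β}(S) ∩ C(P) = 1`. -/
theorem claimA [Finite G] (hG : IsMinSimpleOddOrder G) {M L S P : Subgroup G} (hM : IsCoatom M)
    (hL : IsCoatom L) (hnc : ¬ ∃ g, M = cj g L) {p : ℕ} (hp : p.Prime) (hPc : Nat.card P = p)
    (hpσ : p ∉ sigma L) (hp1 : PRankLE p 1 L) (hS1 : S ≠ ⊥) (hSL : S ≤ L) (hPL : P ≤ L)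
    (hPS : P ≤ Subgroup.normalizer (S : Set G))
    (hfpf : S ⊓ Subgroup.centralizer (P : Set G) = ⊥)
    (hcS : (Nat.card (piCoreOf (beta L) L)).Coprime (Nat.card S))
    (hCM : piCoreOf (beta L) L ⊓ Subgroup.centralizer (S : Set G) ≤ M) :
    piCoreOf (beta L) L ⊓ Subgroup.centralizer (S : Set G) ⊓ Subgroup.centralizer (P : Set G)
      = ⊥ := by
  haveI : Fact p.Prime := ⟨hp⟩
  set C := piCoreOf (beta L) L with hCdef
  by_contra hne
  obtain ⟨X, r, hr, hXc, hrd, hXle⟩ := exists_prime_card_le hne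
  haveI : Fact r.Prime := ⟨hr⟩
  have hXC : X ≤ C := hXle.trans (inf_le_left.trans inf_le_left)
  have hXS : X ≤ Subgroup.centralizer (S : Set G) := hXle.trans (inf_le_left.trans inf_le_right)
  have hXP : X ≤ Subgroup.centralizer (P : Set G) := hXle.trans inf_le_right
  have hrC : r ∣ Nat.card C :=
    hrd.trans (Subgroup.card_dvd_of_le (inf_le_left.trans inf_le_left))
  have hrβ : r ∈ beta L := bc_primes L hr hrC
  have hP1 : P ≠ ⊥ := ne_bot_of_prime_card hp hPc
  have hf := fpf_of_inf hp hPc hfpf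
  have hcP : (Nat.card C).Coprime p :=
    bc_coprime_of_not_mem L hp (fun h => hpσ (beta_subset_sigma hG hL h))
  have hcA : (Nat.card C).Coprime (Nat.card ↥(S ⊔ P)) := by
    refine Nat.Coprime.coprime_dvd_right (Cfsg.Agent.Lib.Helper22.card_sup_dvd hPS) ?_
    rw [hPc]
    exact Nat.Coprime.mul_right hcS hcP
  have hAL : S ⊔ P ≤ L := sup_le hSL hPL
  have hCs : Group.IsSolvable C :=
    MS_solvable hG (fun h => hL.1 (eq_top_iff.2 (h ▸ bc_le L)))
  have hXp : IsPGroup r X := IsPGroup.of_card (n := 1) (by rw [hXc, pow_one])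
  have hAX : S ⊔ P ≤ Subgroup.normalizer (X : Set G) := by
    refine le_trans ?_ (Subgroup.centralizer_le_normalizer (X : Set G))
    exact sup_le (Subgroup.le_centralizer_iff.1 hXS) (Subgroup.le_centralizer_iff.1 hXP)
  obtain ⟨R, hXR, hRC, hRp, hRi, hAR⟩ :=
    Cfsg.Agent.Lib.Helper1.invariant_pSubgroup_le_invariant_sylow (S ⊔ P) C
      (hAL.trans (bc_norm L)) hcA.symm (Or.inr hCs) r X hXC hXp hAX
  -- the maximal subgroup `H` over `N(P)`
  have hPtop : P ≠ ⊤ := MS_isPGroup_ne_top hG (p := p) (IsPGroup.of_card (n := 1) (by rw [hPc, pow_one]))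
  obtain ⟨H, hH, hNH⟩ := exists_coatom_ge (MS_normalizer_ne_top hG hP1 hPtop)
  have hHnc : ¬ ∃ g, H = cj g L := by
    rintro ⟨g, rfl⟩
    have h1 : Subgroup.normalizer ((cj g⁻¹ P : Subgroup G) : Set G) ≤ L := by
      rw [show Subgroup.normalizer ((cj g⁻¹ P : Subgroup G) : Set G) =
        cj g⁻¹ (Subgroup.normalizer (P : Set G)) from normalizer_map_conj _ _]
      have h2 := cj_mono g⁻¹ hNH
      rwa [cj_inv_cj] at h2
    exact (Cfsg.Agent.S1409.result hG L hL p hpσ (cj g⁻¹ P)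
      ((card_map_conj _ _).trans hPc) h1).1.2 hp1
  have hrkH : PRankLE r 1 H := RK hG hL hH hHnc hrβ
  have hDH : R ⊓ Subgroup.centralizer (P : Set G) ≤ H :=
    inf_le_right.trans ((Subgroup.centralizer_le_normalizer (P : Set G)).trans hNH)
  have hom := mem_of_rank_one (D := R ⊓ Subgroup.centralizer (P : Set G)) (X := X)
    (hRp.to_le inf_le_left) (pRankLE_mono hDH hrkH) hXc (le_inf hXR hXP)
  have hRS : R ≤ Subgroup.centralizer (S : Set G) := by
    refine Cfsg.Agent.Lib.Helper24.BG13F.frob_centralizes_pgroup (MS_prime_ne_two hG hrC) hS1 hP1 hPS hf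
      ?_ R hRp (le_sup_left.trans hAR) (le_sup_right.trans hAR) ?_
    · exact (Nat.Coprime.coprime_dvd_left hrC hcA).symm
    · intro x hxR hxr hxP
      exact hXS (hom x (Subgroup.mem_inf.2 ⟨hxR, hxP⟩) hxr)
  have hRM : R ≤ M := (le_inf hRC hRS).trans hCM
  have hrkM : PRankLE r 1 M := RK hG hL hM hnc hrβ
  have hRsyl : IsSylowIn r R L :=
    isSylowIn_of_normal_hall (bc_le L) ((bc_hall hG hL).2.2 r hr hrβ) ⟨hRC, hRp, hRi⟩
  exact hrβ.1.2 (pRankLE_succ hr.pos (pRankLE_of_isSylowIn hRsyl (pRankLE_mono hRM hrkM)))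

/-- **LE'** (BG 13.9, case FPF): there is no subgroup of `M ∩ C(P)` of prime order `r ∈ β(L)`. -/
theorem LE' [Finite G] (hG : IsMinSimpleOddOrder G) {M L S P : Subgroup G} (hM : IsCoatom M)
    (hL : IsCoatom L) (hnc : ¬ ∃ g, M = cj g L) {p : ℕ} (hp : p.Prime) (hPc : Nat.card P = p)
    (hpσM : p ∉ sigma M) (hpσ : p ∉ sigma L) (hp1 : PRankLE p 1 L) (hS1 : S ≠ ⊥) (hSL : S ≤ L)
    (hPM : P ≤ M) (hPL : P ≤ L)
    (hPS : P ≤ Subgroup.normalizer (S : Set G))
    (hfpf : S ⊓ Subgroup.centralizer (P : Set G) = ⊥)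
    (hcS : (Nat.card (piCoreOf (beta L) L)).Coprime (Nat.card S))
    (hCM : piCoreOf (beta L) L ⊓ Subgroup.centralizer (S : Set G) ≤ M)
    (hCM' : piCoreOf (beta L) L ⊓ M ≤ Subgroup.centralizer (S : Set G))
    (hfac : ∀ m ∈ M, ∃ b ∈ piCoreOf (beta M) M, ∃ n ∈ M ⊓ L, m = b * n)
    {X : Subgroup G} {r : ℕ} (hr : r.Prime) (hXc : Nat.card X = r)
    (hrC : r ∣ Nat.card (piCoreOf (beta L) L))
    (hX : X ≤ M ⊓ Subgroup.centralizer (P : Set G)) : False := by
  haveI : Fact p.Prime := ⟨hp⟩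
  haveI : Fact r.Prime := ⟨hr⟩
  have hA := claimA hG hM hL hnc hp hPc hpσ hp1 hS1 hSL hPL hPS hfpf hcS hCM
  set C := piCoreOf (beta L) L with hCdef
  set B := piCoreOf (beta M) M with hBdef
  have hrβ : r ∈ beta L := bc_primes L hr hrC
  have hrB : ¬ r ∣ Nat.card B := fun h =>
    hnc (conj_of_alpha_sigma hG (ut hG) hL hM hrβ.1 (beta_subset_sigma hG hM (bc_primes M hr h)))
  have hpB : ¬ p ∣ Nat.card B := fun h => hpσM (beta_subset_sigma hG hM (bc_primes M hp h))
  have hrp : r ≠ p := fun h => hpσ (h ▸ beta_subset_sigma hG hL hrβ)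
  have hXM : X ≤ M := hX.trans inf_le_left
  have hXP : X ≤ Subgroup.centralizer (P : Set G) := hX.trans inf_le_right
  have hXp : IsPGroup r X := IsPGroup.of_card (n := 1) (by rw [hXc, pow_one])
  set K : Subgroup G := B ⊔ X with hKdef
  have hKM : K ≤ M := sup_le (bc_le M) hXM
  have hKc : Nat.card K ∣ Nat.card B * r := by
    have := Cfsg.Agent.Lib.Helper22.card_sup_dvd (hXM.trans (bc_norm M))
    rwa [hXc] at this
  have hpK : ¬ p ∣ Nat.card K := by
    intro h
    rcases (Nat.Prime.dvd_mul hp).1 (h.trans hKc) with h | h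
    · exact hpB h
    · exact hrp ((Nat.prime_dvd_prime_iff_eq hp hr).1 h).symm
  have hPK : P ≤ Subgroup.normalizer (K : Set G) := by
    refine le_trans (le_inf (hPM.trans (bc_norm M)) ?_)
      (Subgroup.normalizer_inf_normalizer_le_normalizer_sup B X)
    exact (Subgroup.le_centralizer_iff.1 hXP).trans (Subgroup.centralizer_le_normalizer (X : Set G))
  set K0 : Subgroup G := K ⊓ (M ⊓ L) with hK0def
  have hPK0 : P ≤ Subgroup.normalizer (K0 : Set G) :=
    le_trans (le_inf hPK ((le_inf hPM hPL).trans Subgroup.le_normalizer))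
      Subgroup.inf_normalizer_le_normalizer_inf
  have hKle : K ≤ B ⊔ K0 := by
    refine sup_le le_sup_left ?_
    intro x hx
    obtain ⟨b, hb, n, hn, rfl⟩ := hfac x (hXM hx)
    have hnK : n ∈ K := by
      have h1 : n = b⁻¹ * (b * n) := by group
      rw [h1]
      exact K.mul_mem (K.inv_mem ((le_sup_left : B ≤ K) hb)) ((le_sup_right : X ≤ K) hx)
    exact Subgroup.mul_mem _ ((le_sup_left : B ≤ B ⊔ K0) hb)
      ((le_sup_right : K0 ≤ B ⊔ K0) (Subgroup.mem_inf.2 ⟨hnK, hn⟩))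
  have hidx : ¬ r ∣ K0.relIndex K := by
    intro h
    apply hrB
    refine h.trans ?_
    have h1 : Nat.card K ∣ Nat.card B * Nat.card K0 :=
      (Subgroup.card_dvd_of_le hKle).trans (Cfsg.Agent.Lib.Helper22.card_sup_dvd
        ((inf_le_right.trans inf_le_left : K0 ≤ M).trans (bc_norm M)))
    rw [← Cfsg.Agent.Lib.Helper1.relIndex_mul_card (inf_le_left : K0 ≤ K)] at h1
    exact Nat.dvd_of_mul_dvd_mul_right Nat.card_pos h1
  obtain ⟨k, hk, hkX⟩ := Cfsg.Agent.Lib.Helper24.BG13F.gap (p := p) (t := r)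
    (IsPGroup.of_card (n := 1) (by rw [hPc, pow_one])) hpK hPK inf_le_left hPK0 hidx hXp
    le_sup_right hXP
  have hY1 : cj k X ≤ M ⊓ L := hkX.trans inf_le_right
  have hYC : cj k X ≤ C :=
    le_of_normal_of_not_dvd (bc_le L) (bc_norm L) ((bc_hall hG hL).2.2 r hr hrβ)
      (hY1.trans inf_le_right) (isPGroup_map_conj k hXp)
  have hYS : cj k X ≤ Subgroup.centralizer (S : Set G) :=
    (le_inf hYC (hY1.trans inf_le_left)).trans hCM'
  have hYP : cj k X ≤ Subgroup.centralizer (P : Set G) := by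
    have h1 := cj_mono k hXP
    rwa [show cj k (Subgroup.centralizer (P : Set G)) = Subgroup.centralizer (P : Set G) from
      map_conj_eq_self_of_mem (Subgroup.mem_inf.1 hk).2] at h1
  have hbot : cj k X ≤ ⊥ := hA ▸ le_inf (le_inf hYC hYS) hYP
  have hc : Nat.card (cj k X) = r := (card_map_conj k X).trans hXc
  rw [eq_bot_iff.2 hbot, Subgroup.card_bot] at hc
  exact hr.one_lt.ne hc

/-- **Case FPF of BG 13.9 is impossible.**  `M`, `L` non-conjugate maximal subgroups, `S ≠ 1` a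
subgroup of `M ∩ L` of order prime to `|M_β|`, `|L_β|`, `P ≤ M ∩ L` of prime order `p ∉ σ(M) ∪ σ(L)`
(`p`-rank of `M`, `L` at most 1) normalizing `S` with `C_S(P) = 1`; `M = M_β (M ∩ L)`,
`M_β ∩ L = C_{M_β}(S) ≠ M_β`, `N(Y) ≤ M` for `1 ≠ Y ≤ M_β`, and the same for `L`. -/
theorem FPF_false [Finite G] (hG : IsMinSimpleOddOrder G) {M L S P : Subgroup G} (hM : IsCoatom M)
    (hL : IsCoatom L) (hnc : ¬ ∃ g, M = cj g L) {p : ℕ} (hp : p.Prime) (hPc : Nat.card P = p)
    (hpσM : p ∉ sigma M) (hpσL : p ∉ sigma L) (hp1M : PRankLE p 1 M) (hp1L : PRankLE p 1 L)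
    (hS1 : S ≠ ⊥) (hSM : S ≤ M) (hSL : S ≤ L) (hPM : P ≤ M) (hPL : P ≤ L)
    (hPS : P ≤ Subgroup.normalizer (S : Set G))
    (hfpf : S ⊓ Subgroup.centralizer (P : Set G) = ⊥)
    (hcSM : (Nat.card (piCoreOf (beta M) M)).Coprime (Nat.card S))
    (hcSL : (Nat.card (piCoreOf (beta L) L)).Coprime (Nat.card S))
    (hBL : piCoreOf (beta M) M ⊓ Subgroup.centralizer (S : Set G) ≤ L)
    (hCM : piCoreOf (beta L) L ⊓ Subgroup.centralizer (S : Set G) ≤ M)
    (hBL' : piCoreOf (beta M) M ⊓ L ≤ Subgroup.centralizer (S : Set G))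
    (hCM' : piCoreOf (beta L) L ⊓ M ≤ Subgroup.centralizer (S : Set G))
    (hBn : ¬ piCoreOf (beta M) M ≤ L) (hCn : ¬ piCoreOf (beta L) L ≤ M)
    (hfacM : ∀ m ∈ M, ∃ b ∈ piCoreOf (beta M) M, ∃ n ∈ M ⊓ L, m = b * n)
    (hfacL : ∀ m ∈ L, ∃ b ∈ piCoreOf (beta L) L, ∃ n ∈ M ⊓ L, m = b * n)
    (hTIB : ∀ Y : Subgroup G, Y ≤ piCoreOf (beta M) M → Y ≠ ⊥ →
      Subgroup.normalizer (Y : Set G) ≤ M)
    (hTIC : ∀ Y : Subgroup G, Y ≤ piCoreOf (beta L) L → Y ≠ ⊥ →
      Subgroup.normalizer (Y : Set G) ≤ L) : False := by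
  haveI : Fact p.Prime := ⟨hp⟩
  have hnc' : ¬ ∃ g, L = cj g M := by
    rintro ⟨g, rfl⟩
    exact hnc ⟨g⁻¹, (cj_inv_cj g M).symm⟩
  have hP1 : P ≠ ⊥ := ne_bot_of_prime_card hp hPc
  have hPtop : P ≠ ⊤ :=
    MS_isPGroup_ne_top hG (p := p) (IsPGroup.of_card (n := 1) (by rw [hPc, pow_one]))
  have hsolvB : Group.IsSolvable (piCoreOf (beta M) M) :=
    MS_solvable hG (fun h => hM.1 (eq_top_iff.2 (h ▸ bc_le M)))
  have hsolvC : Group.IsSolvable (piCoreOf (beta L) L) :=
    MS_solvable hG (fun h => hL.1 (eq_top_iff.2 (h ▸ bc_le L)))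
  have hB1 := LC S P (piCoreOf (beta M) M) hp hS1 hPc hPS hfpf (hSM.trans (bc_norm M))
    (hPM.trans (bc_norm M)) hsolvB hcSM
    (bc_coprime_of_not_mem M hp (fun h => hpσM (beta_subset_sigma hG hM h)))
    (fun h => hBn ((le_inf le_rfl h).trans hBL))
  have hC1 := LC S P (piCoreOf (beta L) L) hp hS1 hPc hPS hfpf (hSL.trans (bc_norm L))
    (hPL.trans (bc_norm L)) hsolvC hcSL
    (bc_coprime_of_not_mem L hp (fun h => hpσL (beta_subset_sigma hG hL h)))
    (fun h => hCn ((le_inf le_rfl h).trans hCM))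
  have hH0 : Group.IsSolvable (Subgroup.centralizer (P : Set G)) := by
    refine MS_solvable hG (fun h => MS_normalizer_ne_top hG hP1 hPtop ?_)
    exact eq_top_iff.2 (h ▸ Subgroup.centralizer_le_normalizer (P : Set G))
  have hBC : (Nat.card (piCoreOf (beta M) M)).Coprime (Nat.card (piCoreOf (beta L) L)) := by
    by_contra hn
    obtain ⟨r, hr, hr1, hr2⟩ := Nat.Prime.not_coprime_iff_dvd.1 hn
    exact hnc (conj_of_alpha_sigma hG (ut hG) hL hM (bc_primes L hr hr2).1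
      (beta_subset_sigma hG hM (bc_primes M hr hr1)))
  rcases LD' hH0 (bc_le M) (bc_norm M) (bc_coprime_relIndex hG hM) hTIB (bc_le L) (bc_norm L)
    (bc_coprime_relIndex hG hL) hTIC hBC hB1 hC1 with ⟨X, r, hr, hXc, hrd, hX⟩ | ⟨X, r, hr, hXc, hrd, hX⟩
  · exact LE' hG hM hL hnc hp hPc hpσM hpσL hp1L hS1 hSL hPM hPL hPS hfpf hcSL hCM hCM' hfacM
      hr hXc hrd hX
  · exact LE' hG hL hM hnc' hp hPc hpσL hpσM hp1M hS1 hSM hPL hPM hPS hfpf hcSM hBL hBL'
      (fun m hm => by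
        obtain ⟨b, hb, n, hn, h⟩ := hfacL m hm
        exact ⟨b, hb, n, by rwa [inf_comm], h⟩)
      hr hXc hrd hX

end Cfsg.Agent.Lib.Helper72.BG139
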