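/-
Helper library (helper72): case FPF of Bender–Glauberman Theorem 13.9 (S1378), stated for
helper58's structure `Pair`.
-/
import Cfsg.Agent.Lib.Helper72.BG139E
import Cfsg.Agent.Lib.Helper58.BG139A

set_option autoImplicit false
set_option linter.unusedSimpArgs false
set_option linter.unusedVariables false
set_option linter.style.haveILetI false
set_option linter.unusedSectionVars false

namespace Cfsg.Agent.Lib.Helper72.BG139

open Cfsg Cfsg.Agent.Lib.Helper34 Cfsg.Agent.Lib.Helper24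
open Cfsg.Agent.Lib.Helper58.BG139 (Pair)

universe u

variable {G : Type u} [Group G]

/-- **Case FPF of BG 13.9 is impossible**: for a pair `(M, L, S, q)` there is no subgroup `P` of
`N(S)` of prime order with `C_S(P) = 1`. -/
theorem Pair_FPF_false [Finite G] (hG : IsMinSimpleOddOrder G) {M L S P : Subgroup G} {q p : ℕ}
    (h : Pair M L S q) (hp : p.Prime) (hPc : Nat.card P = p)
    (hPS : P ≤ Subgroup.normalizer (S : Set G))
    (hfpf : S ⊓ Subgroup.centralizer (P : Set G) = ⊥) : False := by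
  haveI : Fact p.Prime := ⟨hp⟩
  haveI : Fact q.Prime := ⟨h.prime⟩
  have hPp : IsPGroup p P := IsPGroup.of_card (n := 1) (by rw [hPc, pow_one])
  have hnotc : ¬ P ≤ Subgroup.centralizer (S : Set G) := by
    intro hle
    apply h.S_ne_bot
    rw [eq_bot_iff, ← hfpf]
    exact le_inf le_rfl (Subgroup.le_centralizer_iff.1 hle)
  have hτM := h.tau1_of_not_cent hG hPS hPp hnotc
  have hτL := h.symm.tau1_of_not_cent hG hPS hPp hnotc
  have hcop : ∀ {M' : Subgroup G}, q ∉ beta M' →
      (Nat.card (piCoreOf (beta M') M')).Coprime (Nat.card S) := by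
    intro M' hq
    obtain ⟨k, hk⟩ := IsPGroup.iff_card.1 h.hS.2.1
    rw [hk]
    exact Nat.Coprime.pow_right k (bc_coprime_of_not_mem M' h.prime hq)
  have hcN : Subgroup.centralizer (S : Set G) ≤ Subgroup.normalizer (S : Set G) :=
    Subgroup.centralizer_le_normalizer (S : Set G)
  refine FPF_false hG h.hM h.hL (fun ⟨g, hg⟩ => h.hnc g hg) hp hPc hτM.2.1 hτL.2.1
    hτM.2.2.2.2 hτL.2.2.2.2 h.S_ne_bot h.hSM h.hSL (hPS.trans h.norm_le)
    (hPS.trans h.symm.norm_le) hPS hfpf (hcop (h.not_beta hG)) (hcop (h.symm.not_beta hG))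
    (inf_le_right.trans (hcN.trans h.symm.norm_le)) (inf_le_right.trans (hcN.trans h.norm_le))
    (h.bc_inf_le_cent hG) (h.symm.bc_inf_le_cent hG) (h.not_bc_le hG) (h.symm.not_bc_le hG)
    ?_ ?_
    (fun Y hY hY1 => Cfsg.Agent.Lib.Helper58.BG139.normalizer_le_of_le_bc hG h.hM hY hY1)
    (fun Y hY hY1 => Cfsg.Agent.Lib.Helper58.BG139.normalizer_le_of_le_bc hG h.hL hY hY1)
  · intro m hm
    obtain ⟨b, hb, n, hn, e⟩ := h.exists_mul hG hm
    exact ⟨b, hb, n, by rw [h.inf_eq hG]; exact hn, e⟩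
  · intro m hm
    obtain ⟨b, hb, n, hn, e⟩ := h.symm.exists_mul hG hm
    exact ⟨b, hb, n, by rw [h.inf_eq hG]; exact hn, e⟩

end Cfsg.Agent.Lib.Helper72.BG139
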