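/-
Helper library (helper72): assembly of Bender–Glauberman Theorem 13.9 (S1378) from
* helper58's set-up (`Pair`, Steps 0-5),
* the dichotomy FPF / BC (Step 6, hypothesis `Dich`),
* case FPF (`Pair_FPF_false`),
* case BC (hypothesis `BCF`).
-/
import Cfsg.Agent.Lib.Helper72.BG139G

set_option autoImplicit false
set_option linter.unusedSimpArgs false
set_option linter.unusedVariables false
set_option linter.style.haveILetI false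
set_option linter.unusedSectionVars false

namespace Cfsg.Agent.Lib.Helper72.BG139

open Cfsg Cfsg.Agent.Lib.Helper34 Cfsg.Agent.Lib.Helper24
open Cfsg.Agent.Lib.Helper58.BG139 (Pair pi1)
open Subgroup

universe u

/-- The dichotomy of Step 6. -/
def Dich (G : Type u) [Group G] : Prop :=
  ∀ (M L S : Subgroup G) (q : ℕ), Pair M L S q →
   (∃ (p : ℕ) (P : Subgroup G), p ∈ pi1 S ∧ P ≤ normalizer (S : Set G) ∧ Nat.card P = p ∧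
      S ⊓ centralizer (P : Set G) = ⊥) ∨
   (∃ (p₁ p₂ : ℕ) (S₁ S₂ P₁ P₂ : Subgroup G), p₁ ∈ pi1 S ∧ p₂ ∈ pi1 S ∧ p₁ ≠ p₂ ∧ S₁ ≤ S ∧ S₂ ≤ S ∧
      S₁ ≠ ⊥ ∧ normalizer (S : Set G) ≤ normalizer (S₁ : Set G) ∧ P₁ ≤ normalizer (S : Set G) ∧
      P₂ ≤ normalizer (S : Set G) ∧ Nat.card P₁ = p₁ ∧ Nat.card P₂ = p₂ ∧
      P₁ ≤ centralizer (P₂ : Set G) ∧ S₁ ⊓ centralizer (P₁ : Set G) = ⊥ ∧
      P₂ ≤ centralizer (S₁ : Set G) ∧ P₁ ≤ centralizer (S₂ : Set G) ∧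
      P₂ ≤ normalizer (S₂ : Set G) ∧ ¬ P₂ ≤ centralizer (S₂ : Set G))

/-- Case BC is impossible. -/
def BCF (G : Type u) [Group G] : Prop :=
  ∀ (q p₁ p₂ : ℕ) (M S S₁ S₂ P₁ P₂ : Subgroup G),
   q.Prime → IsSylowIn q S ⊤ → IsCoatom M → normalizer (S : Set G) ≤ M →
   (∀ L : Subgroup G, IsCoatom L → normalizer (S : Set G) ≤ L → p₁ ∈ tau1 L ∧ p₂ ∈ tau1 L) →
   p₁ ≠ p₂ → S₁ ≤ S → S₂ ≤ S → S₁ ≠ ⊥ →
   normalizer (S : Set G) ≤ normalizer (S₁ : Set G) →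
   P₁ ≤ normalizer (S : Set G) → P₂ ≤ normalizer (S : Set G) →
   Nat.card P₁ = p₁ → Nat.card P₂ = p₂ → P₁ ≤ centralizer (P₂ : Set G) →
   S₁ ⊓ centralizer (P₁ : Set G) = ⊥ → P₂ ≤ centralizer (S₁ : Set G) →
   P₁ ≤ centralizer (S₂ : Set G) → P₂ ≤ normalizer (S₂ : Set G) →
   ¬ P₂ ≤ centralizer (S₂ : Set G) → False

variable {G : Type u} [Group G]

/-- There are no pairs. -/
theorem Pair_false [Finite G] (hG : IsMinSimpleOddOrder G) (hD : Dich G) (hBC : BCF G)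
    {M L S : Subgroup G} {q : ℕ} (h : Pair M L S q) : False := by
  haveI : Fact q.Prime := ⟨h.prime⟩
  rcases hD M L S q h with ⟨p, P, hp, hPN, hPc, hfpf⟩ |
    ⟨p₁, p₂, S₁, S₂, P₁, P₂, hp₁, hp₂, hne, hS₁, hS₂, hS₁1, hNS₁, hP₁N, hP₂N, hP₁c, hP₂c, hPP, hfpf,
      hP₂S₁, hP₁S₂, hP₂S₂, hact⟩
  · exact Pair_FPF_false hG h hp.1 hPc hPN hfpf
  · refine hBC q p₁ p₂ M S S₁ S₂ P₁ P₂ h.prime h.hS h.hM h.norm_le ?_ hne hS₁ hS₂ hS₁1 hNS₁ hP₁N hP₂N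
      hP₁c hP₂c hPP hfpf hP₂S₁ hP₁S₂ hP₂S₂ hact
    intro L' hL' hN
    by_cases e : L' = M
    · subst e
      exact ⟨h.pi1_tau1 hG hp₁, h.pi1_tau1 hG hp₂⟩
    · have h' := (Pair.of_norm_le h.hM hL' (Ne.symm e) h.hS h.S_ne_bot h.norm_le hN).symm
      exact ⟨h'.pi1_tau1 hG hp₁, h'.pi1_tau1 hG hp₂⟩

/-- **BG Theorem 13.9** (the statement of S1378), modulo Step 6 and case BC. -/
theorem main_of [Finite G] (hG : IsMinSimpleOddOrder G) (hD : Dich G) (hBC : BCF G) :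
    (∀ p : ℕ, p.Prime → p ∣ Nat.card G → ∃ M : Subgroup G, IsCoatom M ∧ p ∈ Cfsg.sigma M) ∧
      ∀ M N : Subgroup G, IsCoatom M → IsCoatom N → (Cfsg.sigma M ∩ Cfsg.sigma N).Nonempty →
        ∃ g : G, N = M.map (MulAut.conj g).toMonoidHom := by
  refine ⟨fun p hp hd => Cfsg.Agent.Lib.Helper58.BG139.exists_sigma hG hp hd, ?_⟩
  rintro M N hM hN ⟨q, hqM, hqN⟩
  by_contra hnc
  push Not at hnc
  obtain ⟨g, S, h⟩ := Cfsg.Agent.Lib.Helper58.BG139.exists_pair hM hN hnc hqM hqN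
  exact Pair_false hG hD hBC h

end Cfsg.Agent.Lib.Helper72.BG139
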