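import Mathlib
import Cfsg.Prelude
import Cfsg.Agent.Lib.Helper72.BG37a
import Cfsg.Agent.S1481
import Cfsg.Agent.Lib.Helper29.FStar

set_option autoImplicit false
set_option linter.unusedSectionVars false

/-! Towards BG 3.7 (S1445), part 2 (helper72). -/

namespace Cfsg.Agent.Lib.Helper72

open Subgroup Cfsg
open Cfsg.Agent.Lib.Helper47 (pCoreOf_le pCoreOf_isPGroup le_normalizer_pCoreOf
  normalizer_le_normalizer_pCoreOf)
open scoped commutatorElement

universe u

variable {G : Type u} [Group G] [Finite G]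

theorem le_fittingOf {C K : Subgroup G} (hCK : C ≤ K) (hn : K ≤ normalizer (C : Set G))
    (hnil : Group.IsNilpotent C) : C ≤ fittingOf K := by
  have h1 : (C.subgroupOf K).Normal := (normal_subgroupOf_iff_le_normalizer hCK).mpr hn
  have h2 : Group.IsNilpotent (C.subgroupOf K) :=
    Group.nilpotent_of_mulEquiv (subgroupOfEquivOfLe hCK).symm
  have h3 := Cfsg.Agent.Lib.Helper1.le_fittingSubgroup h1 h2
  intro x hx
  exact ⟨⟨x, hCK hx⟩, h3 (mem_subgroupOf.2 hx), rfl⟩

theorem normalizer_le_normalizer_fittingOf (K : Subgroup G) :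
    normalizer (K : Set G) ≤ normalizer (fittingOf K : Set G) :=
  Cfsg.Agent.Lib.Helper46.CharSub.normalizer_le_of_characteristic K _
    (Cfsg.Agent.Lib.Helper29.fittingSubgroup_characteristic _)

theorem pCoreOf_le_fittingOf {k : ℕ} (hk : k.Prime) (K : Subgroup G) :
    pCoreOf k K ≤ fittingOf K := by
  rw [Cfsg.Agent.S1482.fittingOf_eq_iSup]
  exact le_iSup (fun p : Nat.Primes => pCoreOf (p : ℕ) K) ⟨k, hk⟩

/-- `O_{s'}(F(K))`. -/
def sPrimeFit (s : ℕ) (K : Subgroup G) : Subgroup G :=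
  ⨆ k : {k : Nat.Primes // (k : ℕ) ≠ s}, pCoreOf ((k : Nat.Primes) : ℕ) K

theorem sPrimeFit_le_centralizer {s : ℕ} (hs : s.Prime) (K : Subgroup G) :
    sPrimeFit s K ≤ centralizer (pCoreOf s K : Set G) :=
  iSup_le fun k => Cfsg.Agent.S1482.pCoreOf_le_centralizer k.1.2 hs k.2 K

theorem exists_pow_mem_sPrimeFit {s : ℕ} (hs : s.Prime) (K : Subgroup G) {f : G}
    (hf : f ∈ fittingOf K) : ∃ b : ℕ, f ^ (s ^ b) ∈ sPrimeFit s K := by
  have h1 : fittingOf K ≤ pCoreOf s K ⊔ sPrimeFit s K := by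
    rw [Cfsg.Agent.S1482.fittingOf_eq_iSup]
    refine iSup_le fun k => ?_
    by_cases hk : (k : ℕ) = s
    · rw [hk]; exact le_sup_left
    · exact le_trans (le_iSup (fun k : {k : Nat.Primes // (k : ℕ) ≠ s} =>
        pCoreOf ((k : Nat.Primes) : ℕ) K) ⟨k, hk⟩) le_sup_right
  have h2 := sPrimeFit_le_centralizer hs K
  obtain ⟨u, hu, o, ho, rfl⟩ := (Cfsg.Agent.Lib.Helper22.mem_sup_of_le_normalizer
    (h2.trans (centralizer_le_normalizer _))).1 (h1 hf)
  obtain ⟨b, hb⟩ := (pCoreOf_isPGroup (p := s) K) ⟨u, hu⟩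
  have hb' : u ^ s ^ b = 1 := congrArg Subtype.val hb
  refine ⟨b, ?_⟩
  have hc : Commute u o := (mem_centralizer_iff.1 (h2 ho)) u hu
  rw [hc.mul_pow, hb', one_mul]
  exact Subgroup.pow_mem _ ho _

theorem le_normalizer_sPrimeFit (s : ℕ) (K : Subgroup G) :
    normalizer (K : Set G) ≤ normalizer (sPrimeFit s K : Set G) := by
  refine le_trans ?_ (iInf_normalizer_le_normalizer_iSup _)
  exact le_iInf fun k => normalizer_le_normalizer_pCoreOf K

/-- `C_Y(O_{s'}(F(K)))` is nilpotent if `Y/F(K)` is an `s`-group. -/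
theorem isNilpotent_inf_centralizer {s : ℕ} (hs : s.Prime) (K Y : Subgroup G)
    (hsY : ∀ y ∈ Y, ∃ n : ℕ, y ^ (s ^ n) ∈ fittingOf K) :
    Group.IsNilpotent ↥(Y ⊓ centralizer (sPrimeFit s K : Set G)) := by
  have : Fact s.Prime := ⟨hs⟩
  set C₁ := Y ⊓ centralizer (sPrimeFit s K : Set G) with hC₁
  set N₀ : Subgroup ↥C₁ := (sPrimeFit s K).subgroupOf C₁ with hN₀
  have hcent : N₀ ≤ center ↥C₁ := by
    intro x hx
    rw [mem_center_iff]
    intro g
    apply Subtype.ext
    exact ((mem_centralizer_iff.1 g.2.2) x.1 (mem_subgroupOf.1 hx)).symm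
  have hnorm : N₀.Normal := by
    refine ⟨fun n hn g => ?_⟩
    have : g * n * g⁻¹ = n := by
      rw [(mem_center_iff.1 (hcent hn)) g]; group
    rw [this]; exact hn
  have hP : IsPGroup s (↥C₁ ⧸ N₀) := by
    intro y
    obtain ⟨g, rfl⟩ := QuotientGroup.mk_surjective y
    obtain ⟨a, ha⟩ := hsY g.1 g.2.1
    obtain ⟨b, hb⟩ := exists_pow_mem_sPrimeFit hs K ha
    refine ⟨a + b, ?_⟩
    rw [← QuotientGroup.mk_pow, QuotientGroup.eq_one_iff, hN₀, mem_subgroupOf]
    have : ((g ^ s ^ (a + b) : ↥C₁) : G) = ((g : G) ^ s ^ a) ^ s ^ b := by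
      rw [← pow_mul, ← pow_add]; rfl
    rw [this]; exact hb
  have hnil : Group.IsNilpotent (↥C₁ ⧸ N₀) := hP.isNilpotent
  exact Subgroup.isNilpotent_of_ker_le_center (QuotientGroup.mk' N₀)
    (by rw [QuotientGroup.ker_mk']; exact hcent)

theorem K2 (hodd : Odd (Nat.card G)) {s r : ℕ} (hs : s.Prime) (hr : r.Prime) (K A Y : Subgroup G)
    (hA : Nat.card A = r) (hrK : ¬ r ∣ Nat.card K) (hAK : A ≤ normalizer (K : Set G))
    (hCF : fittingOf K ⊓ centralizer (A : Set G) = ⊥) (hYK : Y ≤ K)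
    (hKY : K ≤ normalizer (Y : Set G)) (hAY : A ≤ normalizer (Y : Set G))
    (hsY : ∀ y ∈ Y, ∃ n : ℕ, y ^ (s ^ n) ∈ fittingOf K) : ⁅Y, A⁆ ≤ fittingOf K := by
  have : Fact s.Prime := ⟨hs⟩
  have : Fact r.Prime := ⟨hr⟩
  have hAr : IsPGroup r A := IsPGroup.of_card (n := 1) (by rw [hA, pow_one])
  have hrY : ¬ r ∣ Nat.card Y := fun h => hrK (h.trans (card_dvd_of_le hYK))
  have hAF : A ≤ normalizer (fittingOf K : Set G) :=
    hAK.trans (normalizer_le_normalizer_fittingOf K)
  have hKF : K ≤ normalizer (fittingOf K : Set G) :=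
    le_normalizer.trans (normalizer_le_normalizer_fittingOf K)
  have key : Y ≤ trivMod (fittingOf K) A := by
    apply Cfsg.Agent.Lib.Helper22.le_of_forall_isSylowIn_le
    intro q hq
    have : Fact q.Prime := ⟨hq⟩
    obtain ⟨W, hW, hAW⟩ := Cfsg.Agent.Lib.Helper22.exists_invariant_isSylowIn A Y hAr hrY hAY q
    refine ⟨W, hW, ?_⟩
    by_cases hqs : q = s
    · subst hqs
      -- the main case
      have hT : ⁅W, A⁆ ≤ fittingOf K := by
        by_cases hW1 : W = ⊥
        · rw [hW1, commutator_bot_left]; exact bot_le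
        have hqK : q ∣ Nat.card K := by
          rcases hW.isPGroup.card_eq_or_dvd with h | h
          · exact absurd ((Subgroup.card_eq_one).1 h) hW1
          · exact h.trans (card_dvd_of_le (hW.le.trans hYK))
        have hqr : q ≠ r := by rintro rfl; exact hrK hqK
        have h1 : ⁅W, A⁆ ≤ Y ⊓ centralizer (sPrimeFit q K : Set G) := by
          refine le_inf ((le_normalizer_iff_commutator_le_left.1 hAW).trans hW.le) ?_
          rw [le_centralizer_iff]
          refine iSup_le fun k => ?_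
          rw [← le_centralizer_iff]
          by_cases hPk : pCoreOf ((k : Nat.Primes) : ℕ) K = ⊥
          · rw [hPk]
            intro a _
            rw [mem_centralizer_iff]
            intro v hv
            rw [SetLike.mem_coe, mem_bot] at hv
            rw [hv, one_mul, mul_one]
          have : Fact ((k : Nat.Primes) : ℕ).Prime := ⟨k.1.2⟩
          have hkK : ((k : Nat.Primes) : ℕ) ∣ Nat.card K := by
            rcases (pCoreOf_isPGroup (p := ((k : Nat.Primes) : ℕ)) K).card_eq_or_dvd with h | h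
            · exact absurd ((Subgroup.card_eq_one).1 h) hPk
            · exact h.trans (card_dvd_of_le (pCoreOf_le K))
          exact K1 hodd k.1.2 hs hr k.2 (by intro h; exact hrK (h ▸ hkK)) hqr A W _ hA
            hW.isPGroup (pCoreOf_isPGroup K) hAW (hAK.trans (normalizer_le_normalizer_pCoreOf K))
            ((hW.le.trans hYK).trans (le_normalizer_pCoreOf K))
            (by
              rw [eq_bot_iff, ← hCF]
              exact inf_le_inf_right _ (pCoreOf_le_fittingOf k.1.2 K))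
        refine h1.trans (le_fittingOf (inf_le_left.trans hYK) ?_
          (isNilpotent_inf_centralizer hs K Y hsY))
        exact Cfsg.Agent.Lib.Helper22.le_normalizer_inf_centralizer hKY
          (le_normalizer.trans (le_normalizer_sPrimeFit q K))
      intro w hw
      exact ⟨hKF (hYK (hW.le hw)), fun a ha => hT (commutator_mem_commutator hw ha)⟩
    · -- `q`-elements of `Y` lie in `F(K)`
      intro g hg
      obtain ⟨n, hn⟩ := hsY g (hW.le hg)
      have hgF : g ∈ fittingOf K := by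
        obtain ⟨m, hm⟩ := hW.isPGroup ⟨g, hg⟩
        have hm' : g ^ q ^ m = 1 := congrArg Subtype.val hm
        have hcop : (s ^ n).Coprime (orderOf g) := by
          refine Nat.Coprime.coprime_dvd_right (orderOf_dvd_of_pow_eq_one hm') ?_
          exact Nat.Coprime.pow _ _ ((Nat.coprime_primes hs hq).2 (Ne.symm hqs))
        obtain ⟨j, hj⟩ := exists_pow_eq_self_of_coprime hcop
        rw [← hj]
        exact Subgroup.pow_mem _ hn _
      refine ⟨hKF (hYK (hW.le hg)), fun a ha => ?_⟩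
      have h1 : ⁅g, a⁆ = g * (a * g⁻¹ * a⁻¹) := by rw [commutatorElement_def]; group
      rw [h1]
      exact Subgroup.mul_mem _ hgF (le_normalizer_iff.1 hAF a ha _ (Subgroup.inv_mem _ hgF))
  rw [commutator_le]
  intro y hy a ha
  exact (key hy).2 a ha

end Cfsg.Agent.Lib.Helper72
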