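import Mathlib
import Cfsg.Agent.Lib.Helper72.SylowCount

/-!
Odd-order elements normalizing a subgroup `Q` of a dihedral group centralize `Q`, unless `Q` is a
Klein four-group.
-/

set_option autoImplicit false
open scoped Pointwise

namespace Cfsg.Agent.Lib.Helper72

variable {X : Type*} [Group X]

theorem mem_normalizer_of_conj_mem [Finite X] (Y : Subgroup X) (g : X)
    (h : ∀ u ∈ Y, g * u * g⁻¹ ∈ Y) : g ∈ Subgroup.normalizer (Y : Set X) := by
  rw [mem_normalizer_iff_conj_smul_eq]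
  apply Subgroup.eq_of_le_of_card_ge
  · intro y hy
    rw [mem_conj_smul_iff] at hy
    have := h _ hy
    simpa [mul_assoc] using this
  · rw [card_conj_smul]

/-- If `[x, b]` commutes with `b` and has order prime to that of `b`, then `b` centralizes `x`. -/
theorem conj_eq_self_of_commute {b x : X} {N : ℕ}
    (hc : b * (x⁻¹ * (b * x * b⁻¹)) * b⁻¹ = x⁻¹ * (b * x * b⁻¹))
    (hN : (x⁻¹ * (b * x * b⁻¹)) ^ N = 1) (hcop : Nat.Coprime (orderOf b) N) :
    b * x * b⁻¹ = x := by
  obtain ⟨c, hcdef⟩ : ∃ c, c = x⁻¹ * (b * x * b⁻¹) := ⟨_, rfl⟩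
  rw [← hcdef] at hc hN
  have e3 : b * x * b⁻¹ = x * c := by rw [hcdef]; group
  have hpow : ∀ n : ℕ, b ^ n * x * (b ^ n)⁻¹ = x * c ^ n := by
    intro n
    induction n with
    | zero => simp
    | succ n ihn =>
      have e1 : b ^ (n + 1) * x * (b ^ (n + 1))⁻¹ = b * (b ^ n * x * (b ^ n)⁻¹) * b⁻¹ := by
        rw [pow_succ']; group
      have e2 : b * (x * c ^ n) * b⁻¹ = (b * x * b⁻¹) * (b * c * b⁻¹) ^ n := by
        rw [conj_pow]; group
      rw [e1, ihn, e2, hc, e3, pow_succ', mul_assoc]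
  have h1 := hpow (orderOf b)
  rw [pow_orderOf_eq_one] at h1
  have h2 : c ^ orderOf b = 1 := by simpa using h1.symm
  have d1 : orderOf c ∣ orderOf b := orderOf_dvd_of_pow_eq_one h2
  have d2 : orderOf c ∣ N := orderOf_dvd_of_pow_eq_one hN
  have d3 : orderOf c ∣ Nat.gcd (orderOf b) N := Nat.dvd_gcd d1 d2
  rw [hcop.gcd_eq_one] at d3
  rw [e3, orderOf_eq_one_iff.1 (Nat.dvd_one.1 d3), mul_one]

theorem mem_centralizer_of_forall_conj {Q : Subgroup X} {g : X} (h : ∀ x ∈ Q, g * x * g⁻¹ = x) :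
    g ∈ Subgroup.centralizer (Q : Set X) := by
  rw [Subgroup.mem_centralizer_iff]
  intro x hx
  calc x * g = (g * x * g⁻¹) * g := by rw [h x hx]
    _ = g * x := by group

theorem conj_eq_of_mem_centralizer {Q : Subgroup X} {g : X}
    (h : g ∈ Subgroup.centralizer (Q : Set X)) {x : X} (hx : x ∈ Q) : g * x * g⁻¹ = x := by
  rw [← Subgroup.mem_centralizer_iff.1 h x hx, mul_inv_cancel_right]

/-- An odd-order element normalizing a cyclic `2`-group centralizes it. -/
theorem mem_centralizer_of_isCyclic [Finite X] (Q : Subgroup X) (hQ : IsPGroup 2 Q)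
    (hc : IsCyclic Q) (g : X) (hg : g ∈ Subgroup.normalizer (Q : Set X))
    (hodd : (orderOf g).Coprime 2) : g ∈ Subgroup.centralizer (Q : Set X) := by
  have h1 : orderOf (Subgroup.normalizerMonoidHom Q ⟨g, hg⟩) ∣ orderOf g := by
    have := orderOf_map_dvd (Subgroup.normalizerMonoidHom Q) ⟨g, hg⟩
    rwa [Subgroup.orderOf_mk] at this
  have h2 : orderOf (Subgroup.normalizerMonoidHom Q ⟨g, hg⟩) ∣ Nat.card (MulAut Q) :=
    orderOf_dvd_natCard _
  rw [IsCyclic.card_mulAut] at h2
  obtain ⟨k, hk⟩ := IsPGroup.iff_card.1 hQ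
  rw [hk] at h2
  have h3 : Nat.totient (2 ^ k) ∣ 2 ^ k := by
    rcases k with _ | k
    · simp
    · rw [Nat.totient_prime_pow_succ Nat.prime_two]
      simpa using pow_dvd_pow 2 (Nat.le_succ k)
  have h4 : orderOf (Subgroup.normalizerMonoidHom Q ⟨g, hg⟩) = 1 :=
    Nat.dvd_one.1 ((Nat.Coprime.pow_right k hodd).gcd_eq_one ▸ Nat.dvd_gcd h1 (h2.trans h3))
  have h5 : (⟨g, hg⟩ : Subgroup.normalizer (Q : Set X)) ∈ (Subgroup.normalizerMonoidHom Q).ker :=
    orderOf_eq_one_iff.1 h4
  rw [Subgroup.normalizerMonoidHom_ker] at h5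
  exact h5

/-- **Lemma D.** `S` has a cyclic subgroup `A` "of index two" all of whose outside elements are
involutions (a dihedral-like group). An odd-order element normalizing a `2`-subgroup `Q ≤ S`
centralizes `Q` or `Q` is a four-group. -/
theorem centralizes_or_kleinFour [Finite X] (S A : Subgroup X) (hA : IsCyclic A)
    (hinv : ∀ s ∈ S, s ∉ A → s * s = 1) (hmul : ∀ s ∈ S, ∀ x ∈ S, s ∉ A → x ∉ A → s * x ∈ A)
    (Q : Subgroup X) (hQS : Q ≤ S) (hQ : IsPGroup 2 Q) (g : X)
    (hg : g ∈ Subgroup.normalizer (Q : Set X)) (hodd : (orderOf g).Coprime 2) :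
    g ∈ Subgroup.centralizer (Q : Set X) ∨ IsKleinFour Q := by
  have hγQ : ∀ x ∈ Q, g * x * g⁻¹ ∈ Q := fun x hx => (Subgroup.mem_normalizer_iff.1 hg x).1 hx
  by_cases hQA : Q ≤ A
  · left
    exact mem_centralizer_of_isCyclic Q hQ (Subgroup.isCyclic_of_le hQA) g hg hodd
  obtain ⟨s, hsQ, hsA⟩ := SetLike.not_le_iff_exists.1 hQA
  have hBc : IsCyclic (Q ⊓ A : Subgroup X) := Subgroup.isCyclic_of_le inf_le_right
  obtain ⟨c, hc⟩ := (Subgroup.isCyclic_iff_exists_zpowers_eq_top _).1 hBc
  have hcB : c ∈ Q ⊓ A := hc ▸ Subgroup.mem_zpowers c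
  obtain ⟨hcQ, hcA⟩ := Subgroup.mem_inf.1 hcB
  have hpow2 : ∀ x ∈ Q, ∃ k : ℕ, x ^ 2 ^ k = 1 := by
    intro x hx
    obtain ⟨k, hk⟩ := hQ ⟨x, hx⟩
    exact ⟨k, by simpa using congrArg Subtype.val hk⟩
  by_cases hc4 : c * c = 1
  · -- `|Q ∩ A| ≤ 2`
    have hsq : ∀ x ∈ Q, x * x = 1 := by
      intro x hx
      by_cases hxA : x ∈ A
      · have hxB : x ∈ Subgroup.zpowers c := hc ▸ Subgroup.mem_inf.2 ⟨hx, hxA⟩
        obtain ⟨i, rfl⟩ := Subgroup.mem_zpowers_iff.1 hxB
        rw [← (Commute.refl c).mul_zpow i, hc4, one_zpow]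
      · exact hinv x (hQS hx) hxA
    by_cases hc1 : c = 1
    · left
      have hB : ∀ x ∈ Q, x ∈ A → x = 1 := by
        intro x hx hxA
        have hxB : x ∈ Subgroup.zpowers c := hc ▸ Subgroup.mem_inf.2 ⟨hx, hxA⟩
        rw [hc1, Subgroup.zpowers_one_eq_bot] at hxB
        exact Subgroup.mem_bot.1 hxB
      have hQs : ∀ x ∈ Q, x = 1 ∨ x = s := by
        intro x hx
        by_cases hxA : x ∈ A
        · left; exact hB x hx hxA
        · right
          have h1 := hB _ (Q.mul_mem hsQ hx) (hmul s (hQS hsQ) x (hQS hx) hsA hxA)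
          have h2 := hsq s hsQ
          calc x = (s * s) * x := by rw [h2, one_mul]
            _ = s * (s * x) := by group
            _ = s := by rw [h1, mul_one]
      apply mem_centralizer_of_forall_conj
      intro x hx
      rcases hQs x hx with rfl | rfl
      · simp
      · rcases hQs _ (hγQ x hx) with h1 | h1
        · exfalso
          apply hsA
          have : x = 1 := by
            have := congrArg (fun t => g⁻¹ * t * g) h1
            simpa [mul_assoc] using this
          rw [this]; exact A.one_mem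
        · exact h1
    · right
      have hcardB : Nat.card (Q ⊓ A : Subgroup X) = 2 := by
        rw [← hc, Nat.card_zpowers]
        exact orderOf_eq_prime (by rw [pow_two]; exact hc4) hc1
      have hrel : (Q ⊓ A).relIndex Q = 2 := by
        rw [Subgroup.relIndex_eq_two_iff]
        refine ⟨s, hsQ, fun b hb => ?_⟩
        by_cases hbA : b ∈ A
        · right
          refine ⟨Subgroup.mem_inf.2 ⟨hb, hbA⟩, fun h => hsA ?_⟩
          have := A.mul_mem (A.inv_mem hbA) (Subgroup.mem_inf.1 h).2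
          simpa using this
        · left
          exact ⟨Subgroup.mem_inf.2 ⟨Q.mul_mem hb hsQ, hmul b (hQS hb) s (hQS hsQ) hbA hsA⟩,
            fun h => hbA (Subgroup.mem_inf.1 h).2⟩
      have hcardQ : Nat.card Q = 4 := by
        have := Subgroup.relIndex_mul_relIndex ⊥ (Q ⊓ A) Q bot_le inf_le_left
        rw [Subgroup.relIndex_bot_left, Subgroup.relIndex_bot_left, hcardB, hrel] at this
        exact this.symm
      refine ⟨hcardQ, ?_⟩
      have hd : Monoid.exponent Q ∣ 2 := by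
        apply Monoid.exponent_dvd_of_forall_pow_eq_one
        intro x
        apply Subtype.ext
        rw [pow_two]
        exact hsq x x.2
      rcases (Nat.dvd_prime Nat.prime_two).1 hd with h1 | h1
      · exfalso
        have := Monoid.exp_eq_one_iff.1 h1
        have h2 : Nat.card Q = 1 := Nat.card_unique
        omega
      · exact h1
  · -- `|Q ∩ A| ≥ 4`
    left
    have hgc : g * c * g⁻¹ ∈ Q ⊓ A := by
      refine Subgroup.mem_inf.2 ⟨hγQ c hcQ, ?_⟩
      by_contra hnA
      have h1 := hinv _ (hQS (hγQ c hcQ)) hnA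
      apply hc4
      have h2 : g * (c * c) * g⁻¹ = 1 := by
        rw [← h1]; group
      have := congrArg (fun t => g⁻¹ * t * g) h2
      simpa [mul_assoc] using this
    have hgB : g ∈ Subgroup.normalizer ((Q ⊓ A : Subgroup X) : Set X) := by
      apply mem_normalizer_of_conj_mem
      intro u hu
      rw [← hc] at hu
      obtain ⟨i, rfl⟩ := Subgroup.mem_zpowers_iff.1 hu
      rw [← conj_zpow]
      exact Subgroup.zpow_mem _ hgc i
    have hgCB := mem_centralizer_of_isCyclic _ (hQ.to_le inf_le_left) hBc g hgB hodd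
    apply mem_centralizer_of_forall_conj
    intro x hx
    by_cases hxA : x ∈ A
    · exact conj_eq_of_mem_centralizer hgCB (Subgroup.mem_inf.2 ⟨hx, hxA⟩)
    · have hgxA : g * x * g⁻¹ ∉ A := by
        intro h1
        have h2 := conj_eq_of_mem_centralizer hgCB (Subgroup.mem_inf.2 ⟨hγQ x hx, h1⟩)
        have h3 : g * x * g⁻¹ = x := by
          have := congrArg (fun t => g⁻¹ * t * g) h2
          simpa [mul_assoc] using this
        exact hxA (h3 ▸ h1)
      have hxinv : x⁻¹ = x := by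
        have := hinv x (hQS hx) hxA
        exact inv_eq_of_mul_eq_one_left this
      have hmem : x⁻¹ * (g * x * g⁻¹) ∈ Q ⊓ A := by
        refine Subgroup.mem_inf.2 ⟨Q.mul_mem (Q.inv_mem hx) (hγQ x hx), ?_⟩
        rw [hxinv]
        exact hmul x (hQS hx) _ (hQS (hγQ x hx)) hxA hgxA
      obtain ⟨k, hk⟩ := hpow2 _ (Subgroup.mem_inf.1 hmem).1
      exact conj_eq_self_of_commute (conj_eq_of_mem_centralizer hgCB hmem) hk
        (Nat.Coprime.pow_right k hodd)

/-- The dihedral data of a subgroup isomorphic to a dihedral group. -/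
theorem exists_dihedral_data (S : Subgroup X) (m : ℕ) (e : S ≃* DihedralGroup m) :
    ∃ A : Subgroup X, IsCyclic A ∧ (∀ s ∈ S, s ∉ A → s * s = 1) ∧
      (∀ s ∈ S, ∀ x ∈ S, s ∉ A → x ∉ A → s * x ∈ A) := by
  refine ⟨Subgroup.zpowers ((e.symm (DihedralGroup.r 1) : S) : X), inferInstance, ?_, ?_⟩
  all_goals
    have key : ∀ s (hs : s ∈ S) (i : ZMod m), e ⟨s, hs⟩ = DihedralGroup.r i →
        s ∈ Subgroup.zpowers ((e.symm (DihedralGroup.r 1) : S) : X) := by
      intro s hs i hi
      obtain ⟨k, rfl⟩ := ZMod.intCast_surjective i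
      refine ⟨k, ?_⟩
      have h1 : (⟨s, hs⟩ : S) = (e.symm (DihedralGroup.r 1)) ^ k := by
        rw [← map_zpow, DihedralGroup.r_one_zpow, ← hi, e.symm_apply_apply]
      have h2 := congrArg Subtype.val h1
      simpa using h2.symm
  · intro s hs hsA
    rcases h : e ⟨s, hs⟩ with i | i
    · exact absurd (key s hs i h) hsA
    · have h1 : e (⟨s, hs⟩ * ⟨s, hs⟩) = 1 := by rw [map_mul, h, DihedralGroup.sr_mul_self]
      have h2 : (⟨s, hs⟩ * ⟨s, hs⟩ : S) = 1 := e.injective (by rw [h1, map_one])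
      exact congrArg Subtype.val h2
  · intro s hs x hx hsA hxA
    rcases h : e ⟨s, hs⟩ with i | i
    · exact absurd (key s hs i h) hsA
    · rcases h' : e ⟨x, hx⟩ with j | j
      · exact absurd (key x hx j h') hxA
      · apply key (s * x) (S.mul_mem hs hx) (j - i)
        have : (⟨s * x, S.mul_mem hs hx⟩ : S) = ⟨s, hs⟩ * ⟨x, hx⟩ := rfl
        rw [this, map_mul, h, h', DihedralGroup.sr_mul_sr]

/-- Odd-order elements normalizing a subgroup of a dihedral group. -/
theorem centralizes_or_kleinFour_of_dihedral [Finite X] (S : Subgroup X) (m : ℕ)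
    (e : S ≃* DihedralGroup m) (Q : Subgroup X) (hQS : Q ≤ S) (hQ : IsPGroup 2 Q) (g : X)
    (hg : g ∈ Subgroup.normalizer (Q : Set X)) (hodd : (orderOf g).Coprime 2) :
    g ∈ Subgroup.centralizer (Q : Set X) ∨ IsKleinFour Q := by
  obtain ⟨A, hA, h1, h2⟩ := exists_dihedral_data S m e
  exact centralizes_or_kleinFour S A hA h1 h2 Q hQS hQ g hg hodd

end Cfsg.Agent.Lib.Helper72
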