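import Mathlib
import Cfsg.Prelude
import Cfsg.Agent.Lib.Helper72.BG37b

set_option autoImplicit false
set_option linter.unusedSectionVars false

/-! BG 3.7 (S1445), part 3 (helper72). -/

namespace Cfsg.Agent.Lib.Helper72

open Subgroup Cfsg
open Cfsg.Agent.Lib.Helper47 (pCoreOf_le pCoreOf_isPGroup le_normalizer_pCoreOf
  normalizer_le_normalizer_pCoreOf)
open scoped commutatorElement

universe u

variable {G : Type u} [Group G] [Finite G]

/-- preimage in `G` of a subgroup of `N(D)/D`. -/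
def Bar.pre (D : Subgroup G) (H : Subgroup (Bar.QG D)) : Subgroup G :=
  (H.comap (Bar.pr D)).map (normalizer (D : Set G)).subtype

theorem Bar.mem_pre {D : Subgroup G} {H : Subgroup (Bar.QG D)} {g : G} :
    g ∈ Bar.pre D H ↔ ∃ hN : g ∈ normalizer (D : Set G), Bar.pr D ⟨g, hN⟩ ∈ H := by
  unfold Bar.pre
  constructor
  · rintro ⟨⟨y, hy⟩, h, rfl⟩
    exact ⟨hy, h⟩
  · rintro ⟨hN, h⟩
    exact ⟨⟨g, hN⟩, h, rfl⟩

theorem isSolvable_img {D K : Subgroup G} (h : Group.IsSolvable K) :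
    Group.IsSolvable (Bar.img D K) :=
  Cfsg.Agent.Lib.Helper1.isSolvable_map _ _ (Cfsg.Agent.Lib.Helper1.isSolvable_subgroupOf _ _ h)

theorem Bar.commute_of_commutator_mem {D : Subgroup G} {a b : G}
    (ha : a ∈ normalizer (D : Set G)) (hb : b ∈ normalizer (D : Set G)) (h : ⁅a, b⁆ ∈ D) :
    Bar.pr D ⟨a, ha⟩ * Bar.pr D ⟨b, hb⟩ = Bar.pr D ⟨b, hb⟩ * Bar.pr D ⟨a, ha⟩ := by
  have h2 : Bar.pr D (⟨a, ha⟩ * ⟨b, hb⟩ * ⟨a, ha⟩⁻¹ * ⟨b, hb⟩⁻¹) = 1 :=
    (Bar.pr_eq_one_iff (g := a * b * a⁻¹ * b⁻¹) _).2 h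
  rw [map_mul, map_mul, map_mul, map_inv, map_inv] at h2
  have h3 := mul_inv_eq_one.1 h2
  exact mul_inv_eq_iff_eq_mul.1 h3

theorem K3 (hodd : Odd (Nat.card G)) {r : ℕ} (hr : r.Prime) (K A : Subgroup G)
    (hKs : Group.IsSolvable K) (hA : Nat.card A = r) (hrK : ¬ r ∣ Nat.card K)
    (hAK : A ≤ normalizer (K : Set G))
    (hCF : fittingOf K ⊓ centralizer (A : Set G) = ⊥) : ⁅K, A⁆ ≤ fittingOf K := by
  set D := fittingOf K with hD
  have hKD : K ≤ normalizer (D : Set G) :=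
    le_normalizer.trans (normalizer_le_normalizer_fittingOf K)
  have hAD : A ≤ normalizer (D : Set G) := hAK.trans (normalizer_le_normalizer_fittingOf K)
  have hAKb : Bar.img D A ≤ normalizer (Bar.img D K : Set (Bar.QG D)) := Bar.img_le_normalizer hAK
  -- `A` centralizes every `O_s(K/F)`
  have h1 : ∀ s : ℕ, s.Prime → pCoreOf s (Bar.img D K) ≤ centralizer (Bar.img D A : Set (Bar.QG D)) := by
    intro s hs
    set Yb := pCoreOf s (Bar.img D K) with hYb
    set Y := K ⊓ Bar.pre D Yb with hY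
    have hconj : ∀ g, ∀ hg : g ∈ normalizer (D : Set G),
        Bar.pr D ⟨g, hg⟩ ∈ normalizer (Yb : Set (Bar.QG D)) → g ∈ normalizer (K : Set G) →
        ∀ y ∈ Y, g * y * g⁻¹ ∈ Y := by
      intro g hg hgY hgK y hy
      obtain ⟨hyK, hy2⟩ := mem_inf.1 hy
      obtain ⟨hyN, hy3⟩ := Bar.mem_pre.1 hy2
      refine mem_inf.2 ⟨(mem_normalizer_iff.1 hgK y).1 hyK, Bar.mem_pre.2 ⟨?_, ?_⟩⟩
      · exact Subgroup.mul_mem _ (Subgroup.mul_mem _ hg hyN) (Subgroup.inv_mem _ hg)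
      · have := (mem_normalizer_iff.1 hgY _).1 hy3
        rw [← map_inv, ← map_mul, ← map_mul] at this
        exact this
    have h2 := K2 hodd hs hr K A Y hA hrK hAK hCF inf_le_left
      (by
        rw [le_normalizer_iff]
        intro g hg y hy
        exact hconj g (hKD hg) (le_normalizer_pCoreOf _ (Bar.pr_mem_img _ hg)) (le_normalizer hg)
          y hy)
      (by
        rw [le_normalizer_iff]
        intro g hg y hy
        exact hconj g (hAD hg)
          (normalizer_le_normalizer_pCoreOf _ (hAKb (Bar.pr_mem_img _ hg))) (hAK hg) y hy)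
      (by
        intro y hy
        obtain ⟨hyK, hy2⟩ := mem_inf.1 hy
        obtain ⟨hyN, hy3⟩ := Bar.mem_pre.1 hy2
        obtain ⟨n, hn⟩ := (pCoreOf_isPGroup (p := s) (Bar.img D K)) ⟨_, hy3⟩
        refine ⟨n, ?_⟩
        have hn' : (Bar.pr D ⟨y, hyN⟩) ^ s ^ n = 1 := congrArg Subtype.val hn
        rw [← map_pow] at hn'
        exact (Bar.pr_eq_one_iff (g := y ^ s ^ n) _).1 hn')
    intro yb hyb
    obtain ⟨y, hyN, hyK, rfl⟩ := Bar.mem_img.1 (pCoreOf_le _ hyb)
    have hyY : y ∈ Y := mem_inf.2 ⟨hyK, Bar.mem_pre.2 ⟨hyN, hyb⟩⟩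
    rw [mem_centralizer_iff]
    intro ab hab
    obtain ⟨a, haN, ha, rfl⟩ := Bar.mem_img.1 hab
    exact (Bar.commute_of_commutator_mem hyN haN (h2 (commutator_mem_commutator hyY ha))).symm
  have h2 : fittingOf (Bar.img D K) ≤ centralizer (Bar.img D A : Set (Bar.QG D)) := by
    rw [Cfsg.Agent.S1482.fittingOf_eq_iSup]
    exact iSup_le fun s => h1 s s.2
  have h3 := Cfsg.Agent.S1482.centralizer_fittingOf_le (Bar.img D K) (isSolvable_img hKs)
  have h4 : ⁅fittingOf (Bar.img D K), Bar.img D A⁆ = ⊥ :=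
    commutator_eq_bot_iff_le_centralizer.2 h2
  have h5 : ⁅⁅Bar.img D A, fittingOf (Bar.img D K)⁆, Bar.img D K⁆ = ⊥ := by
    rw [commutator_comm (Bar.img D A), h4, commutator_bot_left]
  have h6 : ⁅⁅fittingOf (Bar.img D K), Bar.img D K⁆, Bar.img D A⁆ = ⊥ := by
    rw [eq_bot_iff, ← h4]
    exact commutator_mono (le_normalizer_iff_commutator_le_left.1
      (Cfsg.Agent.S1481.le_normalizer_fittingOf _)) le_rfl
  have h7 := commutator_commutator_eq_bot_of_rotate h5 h6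
  rw [commutator_eq_bot_iff_le_centralizer] at h7
  have h8 : ⁅Bar.img D K, Bar.img D A⁆ ≤ fittingOf (Bar.img D K) :=
    (le_inf (le_normalizer_iff_commutator_le_left.1 hAKb) h7).trans h3
  have h9 : ⁅⁅Bar.img D K, Bar.img D A⁆, Bar.img D A⁆ = ⊥ := by
    rw [eq_bot_iff, ← h4]
    exact commutator_mono h8 le_rfl
  have hcop : (Nat.card (Bar.img D A)).Coprime (Nat.card (Bar.img D K)) := by
    refine Nat.Coprime.coprime_dvd_left (Bar.card_img_dvd hAD)
      (Nat.Coprime.coprime_dvd_right (Bar.card_img_dvd hKD) ?_)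
    rw [hA]
    exact (Nat.Prime.coprime_iff_not_dvd hr).2 hrK
  have h10 := Cfsg.Agent.Lib.Helper24.commutator_eq_bot_of_coprime hAKb hcop h9
  rw [← Bar.img_commutator hKD hAD, Bar.img_eq_bot_iff
    ((le_normalizer_iff_commutator_le_left.1 hAK).trans hKD)] at h10
  exact h10

theorem S1445_main [Group.IsSolvable G] (hodd : Odd (Nat.card G)) (K R : Subgroup G) [K.Normal]
    (hcop : (Nat.card K).Coprime (Nat.card R))
    (hprime : ∀ x ∈ R, x ≠ 1 → K ⊓ Subgroup.centralizer ({x} : Set G) =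
      (K ⊓ Subgroup.centralizer (R : Set G)))
    (hF : Cfsg.fittingOf K ⊓ Subgroup.centralizer (R : Set G) = ⊥) :
    ⁅K, R⁆ ≤ Cfsg.fittingOf K := by
  by_cases hR : R = ⊥
  · rw [hR, commutator_bot_right]; exact bot_le
  have hR1 : Nat.card R ≠ 1 := fun h => hR ((Subgroup.card_eq_one).1 h)
  obtain ⟨r, hr, hrR⟩ := Nat.exists_prime_and_dvd hR1
  have : Fact r.Prime := ⟨hr⟩
  obtain ⟨⟨x, hxR⟩, hx⟩ := exists_prime_orderOf_dvd_card' r hrR
  have hxo : orderOf x = r := by rw [← hx]; exact (Subgroup.orderOf_mk x hxR).symm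
  have hx1 : x ≠ 1 := by
    rintro rfl
    rw [orderOf_one] at hxo
    exact hr.one_lt.ne hxo
  set A := zpowers x with hAdef
  have hA : Nat.card A = r := by rw [Nat.card_zpowers, hxo]
  have hKtop : normalizer (K : Set G) = ⊤ := normalizer_eq_top_iff.2 inferInstance
  have hAK : A ≤ normalizer (K : Set G) := by rw [hKtop]; exact le_top
  have hrK : ¬ r ∣ Nat.card K := by
    intro h
    have := Nat.eq_one_of_dvd_coprimes hcop h hrR
    exact hr.one_lt.ne' this
  have hCA : centralizer (A : Set G) = centralizer {x} :=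
    Cfsg.Agent.Lib.Helper22.centralizer_zpowers x
  have hCF : fittingOf K ⊓ centralizer (A : Set G) = ⊥ := by
    rw [eq_bot_iff, ← hF, hCA]
    refine le_inf inf_le_left ?_
    have h1 : fittingOf K ⊓ centralizer {x} ≤ K ⊓ centralizer {x} :=
      inf_le_inf_right _ (Cfsg.Agent.S1481.fittingOf_le K)
    rw [hprime x hxR hx1] at h1
    exact h1.trans inf_le_right
  have hKs : Group.IsSolvable K := inferInstance
  have key := K3 hodd hr K A hKs hA hrK hAK hCF
  have hFn : ∀ g : G, ∀ f ∈ fittingOf K, g * f * g⁻¹ ∈ fittingOf K := by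
    intro g f hf
    have : g ∈ normalizer (fittingOf K : Set G) :=
      normalizer_le_normalizer_fittingOf K (by rw [hKtop]; trivial)
    exact (mem_normalizer_iff.1 this f).1 hf
  rw [commutator_le]
  intro k hk y hy
  obtain ⟨f, hf, c, hc, rfl⟩ := Cfsg.Agent.Lib.Helper1.exists_commutator_mul_fixed A K hAK
    (by rw [hA]; exact (Nat.Prime.coprime_iff_not_dvd hr).2 hrK) (Or.inr hKs) k hk
  rw [hCA, hprime x hxR hx1] at hc
  have hcy : y * c = c * y := (mem_centralizer_iff.1 hc.2) y hy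
  have h1 : ⁅f * c, y⁆ = f * (y * f⁻¹ * y⁻¹) := by
    rw [commutatorElement_def]
    have : f * c * y * (f * c)⁻¹ * y⁻¹ = f * (c * y) * c⁻¹ * f⁻¹ * y⁻¹ := by group
    rw [this, ← hcy]; group
  rw [h1]
  exact Subgroup.mul_mem _ (key hf) (hFn y _ (Subgroup.inv_mem _ (key hf)))

end Cfsg.Agent.Lib.Helper72
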