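import Mathlib

/-!
Solvability of small symmetric groups: `Equiv.Perm α` is solvable when `α` has at most 4 elements,
and subgroups of `Equiv.Perm α` generated by permutations supported on at most 4 points are solvable.
-/

set_option autoImplicit false

namespace Cfsg.Agent.Lib.Helper72

theorem isSolvable_of_card_prime {G : Type*} [Group G] {q : ℕ} (hq : q.Prime)
    (h : Nat.card G = q) : Group.IsSolvable G := by
  have : Fact q.Prime := ⟨hq⟩
  have := isCyclic_of_prime_card h
  exact Group.isSolvable_of_comm (fun a b => mul_comm' a b)

theorem isSolvable_alternatingGroup_fin4 : Group.IsSolvable (alternatingGroup (Fin 4)) := by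
  have h4 : Nat.card (Fin 4) = 4 := by simp
  have := alternatingGroup.normal_kleinFour h4
  rw [Group.isSolvable_iff_subgroup_quotient (alternatingGroup.kleinFour (Fin 4))]
  constructor
  · have hc := alternatingGroup.kleinFour_card_of_card_eq_four h4
    have : Fact (Nat.Prime 2) := ⟨Nat.prime_two⟩
    have hp : IsPGroup 2 (alternatingGroup.kleinFour (Fin 4)) := IsPGroup.of_card (n := 2) (by rw [hc]; norm_num)
    have := hp.isNilpotent
    infer_instance
  · apply isSolvable_of_card_prime Nat.prime_three
    have h1 := (alternatingGroup.kleinFour (Fin 4)).card_mul_index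
    rw [alternatingGroup.kleinFour_card_of_card_eq_four h4, alternatingGroup.card_of_card_eq_four h4]
      at h1
    rw [← Subgroup.index_eq_card]
    omega

theorem isSolvable_perm_fin4 : Group.IsSolvable (Equiv.Perm (Fin 4)) := by
  rw [Group.isSolvable_iff_subgroup_quotient (alternatingGroup (Fin 4))]
  refine ⟨isSolvable_alternatingGroup_fin4, ?_⟩
  apply isSolvable_of_card_prime Nat.prime_two
  rw [← Subgroup.index_eq_card]
  exact alternatingGroup.index_eq_two

theorem isSolvable_perm_of_card_le_four (α : Type*) [Fintype α] (h : Fintype.card α ≤ 4) :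
    Group.IsSolvable (Equiv.Perm α) := by
  classical
  obtain ⟨ι⟩ : Nonempty (α ↪ Fin 4) := Function.Embedding.nonempty_of_card_le (by simpa using h)
  have := isSolvable_perm_fin4
  exact Group.isSolvable_of_isSolvable_injective (Equiv.Perm.viaEmbeddingHom_injective ι)

theorem isSolvable_of_le {G : Type*} [Group G] {H K : Subgroup G} (hHK : H ≤ K)
    (hK : Group.IsSolvable K) : Group.IsSolvable H :=
  Group.isSolvable_of_isSolvable_injective (Subgroup.inclusion_injective hHK)

theorem isSolvable_range {G G' : Type*} [Group G] [Group G'] (f : G →* G') (hG : Group.IsSolvable G) :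
    Group.IsSolvable f.range :=
  Group.isSolvable_of_surjective f.rangeRestrict_surjective

/-- A subgroup generated by permutations supported in a set of at most 4 points is solvable. -/
theorem isSolvable_closure_of_support_subset {α : Type*} [DecidableEq α] [Fintype α]
    (S : Set (Equiv.Perm α)) (T : Finset α) (hT : T.card ≤ 4) (hS : ∀ s ∈ S, s.support ⊆ T) :
    Group.IsSolvable (Subgroup.closure S) := by
  have h1 : Group.IsSolvable (Equiv.Perm {x // x ∈ T}) :=
    isSolvable_perm_of_card_le_four _ (by simpa using hT)
  apply isSolvable_of_le (K := (Equiv.Perm.ofSubtype : Equiv.Perm {x // x ∈ T} →* Equiv.Perm α).range)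
    _ (isSolvable_range _ h1)
  rw [Subgroup.closure_le]
  intro s hs
  rw [SetLike.mem_coe, Equiv.Perm.mem_range_ofSubtype_iff]
  intro x hx
  exact hS s hs (by simpa using hx)

/-- Adjoining an element commuting with a solvable subgroup keeps it solvable. -/
theorem isSolvable_closure_insert_of_commute {G : Type*} [Group G] (S : Set G) (c : G)
    (hc : ∀ s ∈ S, Commute s c) (hS : Group.IsSolvable (Subgroup.closure S)) :
    Group.IsSolvable (Subgroup.closure (insert c S)) := by
  have hcomm : ∀ (k : Subgroup.closure S) (z : Subgroup.zpowers c), Commute (k : G) (z : G) := by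
    rintro ⟨k, hk⟩ ⟨z, hz⟩
    obtain ⟨i, rfl⟩ := Subgroup.mem_zpowers_iff.1 hz
    apply Commute.zpow_right
    have hle : Subgroup.closure S ≤ Subgroup.centralizer {c} := by
      rw [Subgroup.closure_le]
      intro s hs
      rw [SetLike.mem_coe, Subgroup.mem_centralizer_singleton_iff]
      exact hc s hs
    exact Subgroup.mem_centralizer_singleton_iff.1 (hle hk)
  let f : (Subgroup.closure S) × (Subgroup.zpowers c) →* G :=
    MonoidHom.noncommCoprod (Subgroup.closure S).subtype (Subgroup.zpowers c).subtype hcomm
  have hz : Group.IsSolvable (Subgroup.zpowers c) :=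
    Group.isSolvable_of_comm (fun a b => mul_comm' a b)
  apply isSolvable_of_le (K := f.range) _ (isSolvable_range f inferInstance)
  rw [Subgroup.closure_le]
  rintro s (rfl | hs)
  · refine ⟨(1, ⟨s, Subgroup.mem_zpowers s⟩), ?_⟩
    change (1 : G) * s = s
    rw [one_mul]
  · refine ⟨(⟨s, Subgroup.subset_closure hs⟩, 1), ?_⟩
    change s * (1 : G) = s
    rw [mul_one]

end Cfsg.Agent.Lib.Helper72
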